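import Cfsg.Agent.Screen.CosetEnum.Table

/-!
# Orbits of the subgroup on the cosets, read off a checked table
-/

set_option autoImplicit false

namespace Cfsg.Agent.Screen.CosetEnum

/-- Bit `c` of `S`. -/
def bit (S c : ℕ) : Bool := Nat.beq (Nat.land (Nat.shiftRight S c) 1) 1

/-- Add `c`. -/
def addBit (S c : ℕ) : ℕ := Nat.lor S (Nat.shiftLeft 1 c)

/-- Grow an orbit along a chain of (word number, earlier member). -/
def Tab.chain (T : Tab) : List (ℕ × ℕ) → ℕ → Option ℕ
  | [], s => some s
  | (g, p) :: l, s =>
    bif bit s p && Nat.blt p T.n && Nat.blt g T.subs.length then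
      force (addBit s (T.app (T.subs.getD g []) p)) fun s' => T.chain l s'
    else none

/-- Closed under the subgroup words, for the first `k` cosets. -/
def Tab.closedGo (T : Tab) (S : ℕ) : ℕ → Bool
  | 0 => true
  | c + 1 => (bif bit S c then T.subs.all fun w => bit S (T.app w c) else true) && T.closedGo S c

/-- Number of members below `k`. -/
def countGo (S : ℕ) : ℕ → ℕ
  | 0 => 0
  | c + 1 => bif bit S c then countGo S c + 1 else countGo S c

/-- Read a chain from a packed table. -/
def unpack (C : Tr) : ℕ → ℕ → List (ℕ × ℕ)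
  | 0, _ => []
  | k + 1, i => (field C (2 * i), field C (2 * i + 1)) :: unpack C k (i + 1)

/-- Number of members among `start, …, start + k - 1`. -/
def countSlice (S start : ℕ) : ℕ → ℕ
  | 0 => 0
  | c + 1 => bif bit S (start + c) then countSlice S start c + 1 else countSlice S start c

/-- Number of members below `n`, summed by slices of 256. -/
def countAll (S n : ℕ) : ℕ → ℕ
  | 0 => 0
  | b + 1 => countSlice S (256 * b) (Nat.min 256 (n - 256 * b)) + countAll S n b

/-- The orbit check. -/
def Tab.orbitOK (T : Tab) (start S size : ℕ) (l : List (ℕ × ℕ)) : Bool :=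
  Nat.blt start T.n && (T.chain l (addBit 0 start)).any (fun s => Nat.beq s S) &&
    T.closedGo S T.n && Nat.beq (countAll S T.n ((T.n + 255) / 256)) size

theorem bit_eq (S c : ℕ) : bit S c = S.testBit c := by
  rw [bit, Nat.testBit]
  show Nat.beq ((S >>> c) &&& 1) 1 = (1 &&& S >>> c != 0)
  rw [Nat.and_comm]
  have h : 1 &&& S >>> c < 2 := Nat.lt_succ_of_le (Nat.and_le_left)
  interval_cases hh : 1 &&& S >>> c <;> rfl

theorem bit_addBit (S c d : ℕ) : bit (addBit S c) d = (bit S d || decide (c = d)) := by
  rw [bit_eq, bit_eq, addBit]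
  show (S ||| 1 <<< c).testBit d = _
  rw [Nat.testBit_or, Nat.one_shiftLeft, Nat.testBit_two_pow]

theorem countGo_eq (S : ℕ) : ∀ k, countGo S k = ((Finset.range k).filter fun c => bit S c = true).card := by
  intro k
  induction k with
  | zero => simp [countGo]
  | succ k ih =>
    rw [countGo, Finset.range_add_one, Finset.filter_insert, ih]
    cases h : bit S k <;> simp

theorem countSlice_eq (S a : ℕ) : ∀ k, countSlice S a k + countGo S a = countGo S (a + k) := by
  intro k
  induction k with
  | zero => simp [countSlice]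
  | succ k ih =>
    rw [countSlice, ← Nat.add_assoc, countGo]
    cases bit S (a + k) <;> simp <;> omega

theorem countAll_eq (S n : ℕ) : ∀ b, countAll S n b = countGo S (Nat.min n (256 * b)) := by
  intro b
  induction b with
  | zero => simp [countAll, countGo]
  | succ b ih =>
    rw [countAll, ih]
    rcases Nat.lt_or_ge n (256 * b) with h | h
    · rw [Nat.sub_eq_zero_of_le h.le, show Nat.min 256 0 = 0 from rfl, show Nat.min n (256 * b) = n by
        simp only [Nat.min_def]; split <;> omega, show Nat.min n (256 * (b + 1)) = n by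
        simp only [Nat.min_def]; split <;> omega]
      simp [countSlice]
    · rw [show Nat.min n (256 * b) = 256 * b by simp only [Nat.min_def]; split <;> omega, countSlice_eq]
      congr 1
      simp only [Nat.min_def]
      split <;> split <;> omega

variable {T : Tab}

theorem closedGo_spec {S : ℕ} : ∀ {k}, T.closedGo S k = true → ∀ c < k, bit S c = true → ∀ w ∈ T.subs,
    bit S (T.app w c) = true
  | 0, _, c, hc => absurd hc (Nat.not_lt_zero c)
  | k + 1, h, c, hc => by
    simp only [Tab.closedGo, Bool.and_eq_true] at h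
    rcases Nat.lt_or_ge c k with hc' | hc'
    · exact closedGo_spec h.2 c hc'
    · obtain rfl : c = k := by omega
      intro hb w hw
      rw [hb, cond_true] at h
      exact List.all_eq_true.1 h.1 w hw

/-- An orbit of `H` on `G ⧸ H` from a checked chain. -/
theorem Tab.Checked.orbit {G : Type*} [Group G] (hT : T.Checked) (gen : ℕ → G) {H : Subgroup G}
    (hH : H = Subgroup.closure {g | ∃ w ∈ T.subs, g = evalW gen w}) {f : G →* Equiv.Perm (Fin T.n)}
    (hf : ∀ x < T.ng, f (gen x) = hT.perm x) (e : Fin T.n ≃ G ⧸ H) (he : ∀ (g : G) c, g • e c = e (f g c))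
    {start S size : ℕ} {l : List (ℕ × ℕ)} (hO : T.orbitOK start S size l = true) :
    ∃ k : Fin T.n, (k : ℕ) = start ∧ (MulAction.orbit H (e k)).ncard = size ∧
      ∀ c : Fin T.n, e c ∈ MulAction.orbit H (e k) ↔ bit S c = true := by
  simp only [Tab.orbitOK, Bool.and_eq_true, Nat.blt_eq] at hO
  obtain ⟨⟨⟨hst, hch⟩, hcl⟩, hcnt⟩ := hO
  refine ⟨⟨start, hst⟩, rfl, ?_⟩
  have hfW : ∀ w : List ℕ, (∀ x ∈ w, x < T.ng) → f (evalW gen w) = evalW hT.perm w := by
    intro w
    induction w with
    | nil => simp [evalW]
    | cons a w ih =>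
      intro hw
      rw [evalW, evalW, map_mul, ih (fun x hx => hw x (List.mem_cons_of_mem _ hx)),
        hf a (hw a List.mem_cons_self)]
  have happ : ∀ w ∈ T.subs, ∀ c : Fin T.n, ((f (evalW gen w) c : Fin T.n) : ℕ) = T.app w c :=
    fun w hw c => by
      rw [hfW w (hT.letters (Or.inr hw)), hT.app_eq w (hT.letters (Or.inr hw))]
  have hmemH : ∀ w ∈ T.subs, evalW gen w ∈ H := fun w hw =>
    hH ▸ Subgroup.subset_closure ⟨w, hw, rfl⟩
  have hinvar : ∀ g ∈ H, ∀ c : Fin T.n, bit S c = true → bit S (f g c : Fin T.n) = true := by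
    intro g hg
    rw [hH] at hg
    induction hg using Subgroup.closure_induction with
    | mem y hy =>
      obtain ⟨w, hw, rfl⟩ := hy
      intro c hc
      rw [happ w hw]
      exact closedGo_spec hcl c c.isLt hc w hw
    | one => intro c hc; simpa using hc
    | mul a b _ _ ha hb => intro c hc; rw [map_mul, Equiv.Perm.mul_apply]; exact ha _ (hb c hc)
    | inv a _ ha =>
      intro c hc
      let σ : {c : Fin T.n // bit S c = true} → {c : Fin T.n // bit S c = true} :=
        fun c => ⟨f a c.1, ha c.1 c.2⟩
      have hσ : Function.Injective σ := fun u v huv =>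
        Subtype.ext ((f a).injective (congrArg Subtype.val huv))
      obtain ⟨d, hd⟩ := (Finite.injective_iff_surjective.1 hσ) ⟨c, hc⟩
      have hd' : f a d.1 = c := congrArg Subtype.val hd
      rw [map_inv, show (f a)⁻¹ c = d.1 by rw [Equiv.Perm.inv_eq_iff_eq, hd']]
      exact d.2
  -- every member of the chain lies in the orbit
  have hchain : ∀ (l : List (ℕ × ℕ)) (s s' : ℕ), T.chain l s = some s' →
      (∀ c, bit s c = true → ∃ h : c < T.n, e ⟨c, h⟩ ∈ MulAction.orbit H (e ⟨start, hst⟩)) →
      ∀ c, bit s' c = true → ∃ h : c < T.n, e ⟨c, h⟩ ∈ MulAction.orbit H (e ⟨start, hst⟩) := by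
    intro l
    induction l with
    | nil => intro s s' h hs; simp only [Tab.chain, Option.some.injEq] at h; exact h ▸ hs
    | cons a l ih =>
      obtain ⟨g, p⟩ := a
      intro s s' h hs
      unfold Tab.chain at h
      simp only [force_eq] at h
      cases hb : (bit s p && Nat.blt p T.n && Nat.blt g T.subs.length) with
      | false => simp [hb] at h
      | true =>
        simp only [hb, cond_true] at h
        simp only [Bool.and_eq_true, Nat.blt_eq] at hb
        refine ih _ _ h fun c hc => ?_
        rw [bit_addBit, Bool.or_eq_true, decide_eq_true_iff] at hc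
        rcases hc with hc | rfl
        · exact hs c hc
        obtain ⟨hp, hmem⟩ := hs p hb.1.1
        rw [List.getD_eq_getElem _ _ hb.2]
        set w := T.subs[g]'hb.2
        have hw : w ∈ T.subs := List.getElem_mem _
        refine ⟨by rw [← happ w hw ⟨p, hp⟩]; exact Fin.isLt _, ?_⟩
        have : (⟨T.app w p, by rw [← happ w hw ⟨p, hp⟩]; exact Fin.isLt _⟩ : Fin T.n) = f (evalW gen w) ⟨p, hp⟩ :=
          Fin.ext (happ w hw ⟨p, hp⟩).symm
        rw [this, ← he]
        exact MulAction.mem_orbit_of_mem_orbit (⟨evalW gen w, hmemH w hw⟩ : H) hmem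
  obtain ⟨s', hs', hS⟩ : ∃ s', T.chain l (addBit 0 start) = some s' ∧ s' = S := by
    cases hc : T.chain l (addBit 0 start) with
    | none => rw [hc] at hch; simp at hch
    | some s => rw [hc] at hch; exact ⟨s, rfl, by simpa using hch⟩
  have hstart : ∀ c, bit (addBit 0 start) c = true ↔ c = start := by
    intro c
    rw [bit_addBit, bit_eq, Nat.zero_testBit, Bool.false_or, decide_eq_true_iff, eq_comm]
  have hfwd : ∀ c, bit S c = true → ∃ h : c < T.n, e ⟨c, h⟩ ∈ MulAction.orbit H (e ⟨start, hst⟩) :=
    hS ▸ hchain l _ _ hs' (fun c hc => by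
      obtain rfl := (hstart c).1 hc
      exact ⟨hst, MulAction.mem_orbit_self _⟩)
  have hstartS : bit S start = true := by
    have mono : ∀ (l : List (ℕ × ℕ)) (s s' : ℕ), T.chain l s = some s' → bit s start = true → bit s' start = true := by
      intro l
      induction l with
      | nil => intro s s' h hs; simp only [Tab.chain, Option.some.injEq] at h; exact h ▸ hs
      | cons a l ih =>
        obtain ⟨g, p⟩ := a
        intro s s' h hs
        unfold Tab.chain at h
        simp only [force_eq] at h
        cases hb : (bit s p && Nat.blt p T.n && Nat.blt g T.subs.length) with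
        | false => simp [hb] at h
        | true =>
          simp only [hb, cond_true] at h
          exact ih _ _ h (by rw [bit_addBit, hs, Bool.true_or])
    exact hS ▸ mono l _ _ hs' ((hstart start).2 rfl)
  have hiff : ∀ c : Fin T.n, e c ∈ MulAction.orbit H (e ⟨start, hst⟩) ↔ bit S c = true := by
    intro c
    refine ⟨fun hc => ?_, fun hc => (hfwd c hc).2⟩
    obtain ⟨⟨g, hg⟩, hgc⟩ := hc
    change g • e ⟨start, hst⟩ = e c at hgc
    rw [he] at hgc
    rw [← e.injective hgc]
    exact hinvar g hg _ hstartS
  refine ⟨?_, hiff⟩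
  have himg : MulAction.orbit H (e ⟨start, hst⟩) = e '' {c | bit S c = true} := by
    ext q
    obtain ⟨c, rfl⟩ := e.surjective q
    simp [hiff c]
  rw [himg, Set.ncard_image_of_injective _ e.injective, ← Nat.eq_of_beq_eq_true hcnt, countAll_eq,
    show Nat.min T.n (256 * ((T.n + 255) / 256)) = T.n by simp only [Nat.min_def]; split <;> omega,
    countGo_eq]
  rw [← Set.ncard_image_of_injective _ Fin.val_injective, ← Set.ncard_coe_finset]
  congr 1
  ext c
  simp only [Set.mem_image, Set.mem_setOf_eq, Finset.coe_filter, Finset.mem_range]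
  exact ⟨fun ⟨d, hd, hdc⟩ => hdc ▸ ⟨d.isLt, hd⟩, fun ⟨h1, h2⟩ => ⟨⟨c, h1⟩, h2, rfl⟩⟩

end Cfsg.Agent.Screen.CosetEnum
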