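import Cfsg.Agent.Screen.CosetEnum.Order

/-!
# Small facts for assembling orders from several tables
-/

set_option autoImplicit false

namespace Cfsg.Agent.Screen.CosetEnum

/-- A list read from a tree. -/
def readAll (C : Tr) : ℕ → ℕ → List ℕ
  | 0, _ => []
  | k + 1, i => C.get i :: force (i + 1) fun j => readAll C k j

theorem length_readAll (C : Tr) : ∀ k i, (readAll C k i).length = k
  | 0, _ => rfl
  | k + 1, i => by simp [readAll, force_eq, length_readAll C k (i + 1)]

/-- Check that a word fixes the cosets below `k`. -/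
def Tab.fixesAll (T : Tab) (w : List ℕ) : ℕ → Bool
  | 0 => true
  | c + 1 => Nat.beq (T.app w c) c && T.fixesAll w c

theorem Tab.fixesAll_spec {T : Tab} {w : List ℕ} : ∀ {k : ℕ}, T.fixesAll w k = true → ∀ c < k, T.app w c = c
  | 0, _, c, hc => absurd hc (Nat.not_lt_zero c)
  | k + 1, h, c, hc => by
    simp only [Tab.fixesAll, Bool.and_eq_true] at h
    rcases Nat.lt_or_ge c k with hc' | hc'
    · exact Tab.fixesAll_spec h.2 c hc'
    · obtain rfl : c = k := by omega
      exact Nat.eq_of_beq_eq_true h.1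

variable {G : Type*} [Group G]

theorem evalW_map (gen : ℕ → G) (m : ℕ → ℕ) : ∀ w : List ℕ, evalW (fun x => gen (m x)) w = evalW gen (w.map m)
  | [] => rfl
  | a :: w => by simp [evalW, evalW_map gen m w]

theorem evalW_hom {K : Type*} [Group K] (f : G →* K) (gen : ℕ → G) :
    ∀ w : List ℕ, f (evalW gen w) = evalW (fun x => f (gen x)) w
  | [] => by simp [evalW]
  | a :: w => by simp [evalW, evalW_hom f gen w]

/-- The subgroup words of one level are the letters of the next. -/
theorem closure_chain (gen : ℕ → G) (m M : ℕ → ℕ) (k : ℕ) (ws : List (List ℕ))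
    (h : ws.map (List.map M) = (List.range k).map fun x => [m x]) :
    Subgroup.closure {g : G | ∃ w ∈ ws, g = evalW (fun x => gen (M x)) w} =
      Subgroup.closure {g : G | ∃ x < k, g = gen (m x)} := by
  congr 1
  ext g
  constructor
  · rintro ⟨w, hw, rfl⟩
    have hmem := List.mem_map_of_mem (f := List.map M) hw
    rw [h] at hmem
    obtain ⟨x, hx, he⟩ := List.mem_map.1 hmem
    refine ⟨x, List.mem_range.1 hx, ?_⟩
    rw [evalW_map, ← he]
    simp [evalW]
  · rintro ⟨x, hx, rfl⟩
    have hmem : [m x] ∈ ws.map (List.map M) := h ▸ List.mem_map_of_mem (List.mem_range.2 hx)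
    obtain ⟨w, hw, he⟩ := List.mem_map.1 hmem
    refine ⟨w, hw, ?_⟩
    rw [evalW_map, he]
    simp [evalW]

theorem closure_top (gen : ℕ → G) (k : ℕ) (hout : ∀ x, k ≤ x → gen x = 1)
    (htop : Subgroup.closure (Set.range gen) = ⊤) :
    (⊤ : Subgroup G) = Subgroup.closure {g : G | ∃ x < k, g = gen x} := by
  refine (eq_top_iff.2 (htop ▸ (Subgroup.closure_le _).2 ?_)).symm
  rintro _ ⟨x, rfl⟩
  rcases Nat.lt_or_ge x k with hx | hx
  · exact Subgroup.subset_closure ⟨x, hx, rfl⟩
  · rw [hout x hx]; exact one_mem _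

theorem closure_nil (gen : ℕ → G) :
    (⊥ : Subgroup G) = Subgroup.closure {g : G | ∃ w ∈ ([] : List (List ℕ)), g = evalW gen w} := by
  refine (eq_bot_iff.2 ((Subgroup.closure_le _).2 ?_)).symm
  rintro g ⟨w, hw, -⟩
  simp at hw

/-- The image of the generators lies in the range of a homomorphism. -/
theorem wclosure_le_range {K : Type*} [Group K] (f : G →* K) (σ : ℕ → K) (gen : ℕ → G) (k : ℕ)
    (hf : ∀ x < k, f (gen x) = σ x) (kw : List (List ℕ)) (hkw : ∀ w ∈ kw, ∀ x ∈ w, x < k) :
    wclosure σ kw ≤ f.range := by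
  refine (Subgroup.closure_le _).2 ?_
  rintro _ ⟨w, hw, rfl⟩
  have : ∀ v : List ℕ, (∀ x ∈ v, x < k) → evalW σ v ∈ f.range := by
    intro v
    induction v with
    | nil => intro _; exact one_mem _
    | cons a v ih =>
      intro hv
      rw [evalW, ← hf a (hv a List.mem_cons_self)]
      exact mul_mem (ih fun x hx => hv x (List.mem_cons_of_mem _ hx)) ⟨_, rfl⟩
  exact this w (hkw w hw)

/-- Equal orders force injectivity. -/
theorem injective_of_card {K : Type*} [Group K] [Finite G] (f : G →* K) (h : Nat.card G ≤ Nat.card f.range) :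
    Function.Injective f := by
  rw [← MonoidHom.rangeRestrict_injective_iff]
  exact (Function.Surjective.bijective_of_nat_card_le f.rangeRestrict_surjective h).1

end Cfsg.Agent.Screen.CosetEnum
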