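import Cfsg.Agent.Screen.CosetEnum.Table
import Cfsg.Prelude.Def_Spor_Fi22

/-!
# The presentation of Fi22 as a list of words
-/

set_option autoImplicit false
set_option maxRecDepth 20000

namespace Cfsg.Agent.Screen.CosetEnum.PresFi22

open Cfsg.Agent.Screen.CosetEnum Cfsg.Spor

/-- Number of a generator. -/
def idx : Fi22.Gen → ℕ
  | .a => 0
  | .b => 1
  | .c => 2
  | .d => 3
  | .e => 4
  | .f => 5
  | .g => 6
  | .h => 7
  | .i => 8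

/-- The generators, numbered; other numbers give `1`. -/
def gens (n : ℕ) : Fi22 :=
  match n with
  | 0 => PresentedGroup.of Fi22.Gen.a
  | 1 => PresentedGroup.of Fi22.Gen.b
  | 2 => PresentedGroup.of Fi22.Gen.c
  | 3 => PresentedGroup.of Fi22.Gen.d
  | 4 => PresentedGroup.of Fi22.Gen.e
  | 5 => PresentedGroup.of Fi22.Gen.f
  | 6 => PresentedGroup.of Fi22.Gen.g
  | 7 => PresentedGroup.of Fi22.Gen.h
  | 8 => PresentedGroup.of Fi22.Gen.i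
  | _ => 1

theorem gens_idx (x : Fi22.Gen) : gens (idx x) = PresentedGroup.of x := by cases x <;> rfl

theorem idx_lt (x : Fi22.Gen) : idx x < 9 := by cases x <;> decide

/-- The relators as words. -/
def relList : List (List ℕ) :=
  [[2, 0, 2, 0],
   [3, 0, 3, 0],
   [4, 0, 4, 0],
   [7, 0, 7, 0],
   [5, 0, 5, 0],
   [6, 0, 6, 0],
   [8, 0, 8, 0],
   [3, 1, 3, 1],
   [4, 1, 4, 1],
   [7, 1, 7, 1],
   [5, 1, 5, 1],
   [6, 1, 6, 1],
   [8, 1, 8, 1],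
   [4, 2, 4, 2],
   [7, 2, 7, 2],
   [5, 2, 5, 2],
   [6, 2, 6, 2],
   [8, 2, 8, 2],
   [5, 3, 5, 3],
   [6, 3, 6, 3],
   [8, 3, 8, 3],
   [7, 4, 7, 4],
   [6, 4, 6, 4],
   [8, 4, 8, 4],
   [5, 7, 5, 7],
   [6, 7, 6, 7],
   [8, 5, 8, 5],
   [8, 6, 8, 6],
   [1, 0, 1, 0, 1, 0],
   [2, 1, 2, 1, 2, 1],
   [3, 2, 3, 2, 3, 2],
   [4, 3, 4, 3, 4, 3],
   [7, 3, 7, 3, 7, 3],
   [5, 4, 5, 4, 5, 4],
   [8, 7, 8, 7, 8, 7],
   [6, 5, 6, 5, 6, 5],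
   [7, 5, 4, 3, 2, 1, 0, 7, 5, 4, 3, 2, 1, 0, 7, 5, 4, 3, 2, 1, 0, 7, 5, 4, 3, 2, 1, 0, 7, 5, 4, 3, 2, 1, 0, 7, 5, 4, 3, 2, 1, 0, 7, 5, 4, 3, 2, 1, 0, 7, 5, 4, 3, 2, 1, 0, 7, 5, 4, 3, 2, 1, 0],
   [7, 6, 5, 4, 3, 2, 1, 7, 6, 5, 4, 3, 2, 1, 7, 6, 5, 4, 3, 2, 1, 7, 6, 5, 4, 3, 2, 1, 7, 6, 5, 4, 3, 2, 1, 7, 6, 5, 4, 3, 2, 1, 7, 6, 5, 4, 3, 2, 1, 7, 6, 5, 4, 3, 2, 1, 7, 6, 5, 4, 3, 2, 1],
   [8, 7, 3, 5, 4, 3, 1, 2, 3, 8, 7, 3, 5, 4, 3, 1, 2, 3, 8, 7, 3, 5, 4, 3, 1, 2, 3, 8, 7, 3, 5, 4, 3, 1, 2, 3, 8, 7, 3, 5, 4, 3, 1, 2, 3, 8, 7, 3, 5, 4, 3, 1, 2, 3, 8, 7, 3, 5, 4, 3, 1, 2, 3, 8, 7, 3, 5, 4, 3, 1, 2, 3, 8, 7, 3, 5, 4, 3, 1, 2, 3, 8, 7, 3, 5, 4, 3, 1, 2, 3],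
   [0, 0],
   [1, 1],
   [2, 2],
   [3, 3],
   [4, 4],
   [5, 5],
   [6, 6],
   [7, 7],
   [8, 8],
   []]

theorem mul_pow_swap {G : Type*} [Group G] {a b : G} {m : ℕ} (h : (a * b) ^ m = 1) : (b * a) ^ m = 1 := by
  rw [show b * a = b * (a * b) * b⁻¹ by group, conj_pow, h, mul_one, mul_inv_cancel]

variable {K : Type*} [Group K] (σ : ℕ → K)

theorem word0 : evalW σ [2, 0, 2, 0] = (σ 0 * σ 2) ^ 2 := by
  rw [show ([2, 0, 2, 0] : List ℕ) = pw 2 [2, 0] from rfl, evalW_pw]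
  simp [evalW]

theorem word1 : evalW σ [3, 0, 3, 0] = (σ 0 * σ 3) ^ 2 := by
  rw [show ([3, 0, 3, 0] : List ℕ) = pw 2 [3, 0] from rfl, evalW_pw]
  simp [evalW]

theorem word2 : evalW σ [4, 0, 4, 0] = (σ 0 * σ 4) ^ 2 := by
  rw [show ([4, 0, 4, 0] : List ℕ) = pw 2 [4, 0] from rfl, evalW_pw]
  simp [evalW]

theorem word3 : evalW σ [7, 0, 7, 0] = (σ 0 * σ 7) ^ 2 := by
  rw [show ([7, 0, 7, 0] : List ℕ) = pw 2 [7, 0] from rfl, evalW_pw]
  simp [evalW]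

theorem word4 : evalW σ [5, 0, 5, 0] = (σ 0 * σ 5) ^ 2 := by
  rw [show ([5, 0, 5, 0] : List ℕ) = pw 2 [5, 0] from rfl, evalW_pw]
  simp [evalW]

theorem word5 : evalW σ [6, 0, 6, 0] = (σ 0 * σ 6) ^ 2 := by
  rw [show ([6, 0, 6, 0] : List ℕ) = pw 2 [6, 0] from rfl, evalW_pw]
  simp [evalW]

theorem word6 : evalW σ [8, 0, 8, 0] = (σ 0 * σ 8) ^ 2 := by
  rw [show ([8, 0, 8, 0] : List ℕ) = pw 2 [8, 0] from rfl, evalW_pw]
  simp [evalW]

theorem word7 : evalW σ [3, 1, 3, 1] = (σ 1 * σ 3) ^ 2 := by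
  rw [show ([3, 1, 3, 1] : List ℕ) = pw 2 [3, 1] from rfl, evalW_pw]
  simp [evalW]

theorem word8 : evalW σ [4, 1, 4, 1] = (σ 1 * σ 4) ^ 2 := by
  rw [show ([4, 1, 4, 1] : List ℕ) = pw 2 [4, 1] from rfl, evalW_pw]
  simp [evalW]

theorem word9 : evalW σ [7, 1, 7, 1] = (σ 1 * σ 7) ^ 2 := by
  rw [show ([7, 1, 7, 1] : List ℕ) = pw 2 [7, 1] from rfl, evalW_pw]
  simp [evalW]

theorem word10 : evalW σ [5, 1, 5, 1] = (σ 1 * σ 5) ^ 2 := by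
  rw [show ([5, 1, 5, 1] : List ℕ) = pw 2 [5, 1] from rfl, evalW_pw]
  simp [evalW]

theorem word11 : evalW σ [6, 1, 6, 1] = (σ 1 * σ 6) ^ 2 := by
  rw [show ([6, 1, 6, 1] : List ℕ) = pw 2 [6, 1] from rfl, evalW_pw]
  simp [evalW]

theorem word12 : evalW σ [8, 1, 8, 1] = (σ 1 * σ 8) ^ 2 := by
  rw [show ([8, 1, 8, 1] : List ℕ) = pw 2 [8, 1] from rfl, evalW_pw]
  simp [evalW]

theorem word13 : evalW σ [4, 2, 4, 2] = (σ 2 * σ 4) ^ 2 := by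
  rw [show ([4, 2, 4, 2] : List ℕ) = pw 2 [4, 2] from rfl, evalW_pw]
  simp [evalW]

theorem word14 : evalW σ [7, 2, 7, 2] = (σ 2 * σ 7) ^ 2 := by
  rw [show ([7, 2, 7, 2] : List ℕ) = pw 2 [7, 2] from rfl, evalW_pw]
  simp [evalW]

theorem word15 : evalW σ [5, 2, 5, 2] = (σ 2 * σ 5) ^ 2 := by
  rw [show ([5, 2, 5, 2] : List ℕ) = pw 2 [5, 2] from rfl, evalW_pw]
  simp [evalW]

theorem word16 : evalW σ [6, 2, 6, 2] = (σ 2 * σ 6) ^ 2 := by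
  rw [show ([6, 2, 6, 2] : List ℕ) = pw 2 [6, 2] from rfl, evalW_pw]
  simp [evalW]

theorem word17 : evalW σ [8, 2, 8, 2] = (σ 2 * σ 8) ^ 2 := by
  rw [show ([8, 2, 8, 2] : List ℕ) = pw 2 [8, 2] from rfl, evalW_pw]
  simp [evalW]

theorem word18 : evalW σ [5, 3, 5, 3] = (σ 3 * σ 5) ^ 2 := by
  rw [show ([5, 3, 5, 3] : List ℕ) = pw 2 [5, 3] from rfl, evalW_pw]
  simp [evalW]

theorem word19 : evalW σ [6, 3, 6, 3] = (σ 3 * σ 6) ^ 2 := by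
  rw [show ([6, 3, 6, 3] : List ℕ) = pw 2 [6, 3] from rfl, evalW_pw]
  simp [evalW]

theorem word20 : evalW σ [8, 3, 8, 3] = (σ 3 * σ 8) ^ 2 := by
  rw [show ([8, 3, 8, 3] : List ℕ) = pw 2 [8, 3] from rfl, evalW_pw]
  simp [evalW]

theorem word21 : evalW σ [7, 4, 7, 4] = (σ 4 * σ 7) ^ 2 := by
  rw [show ([7, 4, 7, 4] : List ℕ) = pw 2 [7, 4] from rfl, evalW_pw]
  simp [evalW]

theorem word22 : evalW σ [6, 4, 6, 4] = (σ 4 * σ 6) ^ 2 := by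
  rw [show ([6, 4, 6, 4] : List ℕ) = pw 2 [6, 4] from rfl, evalW_pw]
  simp [evalW]

theorem word23 : evalW σ [8, 4, 8, 4] = (σ 4 * σ 8) ^ 2 := by
  rw [show ([8, 4, 8, 4] : List ℕ) = pw 2 [8, 4] from rfl, evalW_pw]
  simp [evalW]

theorem word24 : evalW σ [5, 7, 5, 7] = (σ 7 * σ 5) ^ 2 := by
  rw [show ([5, 7, 5, 7] : List ℕ) = pw 2 [5, 7] from rfl, evalW_pw]
  simp [evalW]

theorem word25 : evalW σ [6, 7, 6, 7] = (σ 7 * σ 6) ^ 2 := by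
  rw [show ([6, 7, 6, 7] : List ℕ) = pw 2 [6, 7] from rfl, evalW_pw]
  simp [evalW]

theorem word26 : evalW σ [8, 5, 8, 5] = (σ 5 * σ 8) ^ 2 := by
  rw [show ([8, 5, 8, 5] : List ℕ) = pw 2 [8, 5] from rfl, evalW_pw]
  simp [evalW]

theorem word27 : evalW σ [8, 6, 8, 6] = (σ 6 * σ 8) ^ 2 := by
  rw [show ([8, 6, 8, 6] : List ℕ) = pw 2 [8, 6] from rfl, evalW_pw]
  simp [evalW]

theorem word28 : evalW σ [1, 0, 1, 0, 1, 0] = (σ 0 * σ 1) ^ 3 := by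
  rw [show ([1, 0, 1, 0, 1, 0] : List ℕ) = pw 3 [1, 0] from rfl, evalW_pw]
  simp [evalW]

theorem word29 : evalW σ [2, 1, 2, 1, 2, 1] = (σ 1 * σ 2) ^ 3 := by
  rw [show ([2, 1, 2, 1, 2, 1] : List ℕ) = pw 3 [2, 1] from rfl, evalW_pw]
  simp [evalW]

theorem word30 : evalW σ [3, 2, 3, 2, 3, 2] = (σ 2 * σ 3) ^ 3 := by
  rw [show ([3, 2, 3, 2, 3, 2] : List ℕ) = pw 3 [3, 2] from rfl, evalW_pw]
  simp [evalW]

theorem word31 : evalW σ [4, 3, 4, 3, 4, 3] = (σ 3 * σ 4) ^ 3 := by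
  rw [show ([4, 3, 4, 3, 4, 3] : List ℕ) = pw 3 [4, 3] from rfl, evalW_pw]
  simp [evalW]

theorem word32 : evalW σ [7, 3, 7, 3, 7, 3] = (σ 3 * σ 7) ^ 3 := by
  rw [show ([7, 3, 7, 3, 7, 3] : List ℕ) = pw 3 [7, 3] from rfl, evalW_pw]
  simp [evalW]

theorem word33 : evalW σ [5, 4, 5, 4, 5, 4] = (σ 4 * σ 5) ^ 3 := by
  rw [show ([5, 4, 5, 4, 5, 4] : List ℕ) = pw 3 [5, 4] from rfl, evalW_pw]
  simp [evalW]

theorem word34 : evalW σ [8, 7, 8, 7, 8, 7] = (σ 7 * σ 8) ^ 3 := by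
  rw [show ([8, 7, 8, 7, 8, 7] : List ℕ) = pw 3 [8, 7] from rfl, evalW_pw]
  simp [evalW]

theorem word35 : evalW σ [6, 5, 6, 5, 6, 5] = (σ 5 * σ 6) ^ 3 := by
  rw [show ([6, 5, 6, 5, 6, 5] : List ℕ) = pw 3 [6, 5] from rfl, evalW_pw]
  simp [evalW]

theorem word36 : evalW σ [7, 5, 4, 3, 2, 1, 0, 7, 5, 4, 3, 2, 1, 0, 7, 5, 4, 3, 2, 1, 0, 7, 5, 4, 3, 2, 1, 0, 7, 5, 4, 3, 2, 1, 0, 7, 5, 4, 3, 2, 1, 0, 7, 5, 4, 3, 2, 1, 0, 7, 5, 4, 3, 2, 1, 0, 7, 5, 4, 3, 2, 1, 0] = (σ 0 * σ 1 * σ 2 * σ 3 * σ 4 * σ 5 * σ 7) ^ 9 := by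
  rw [show ([7, 5, 4, 3, 2, 1, 0, 7, 5, 4, 3, 2, 1, 0, 7, 5, 4, 3, 2, 1, 0, 7, 5, 4, 3, 2, 1, 0, 7, 5, 4, 3, 2, 1, 0, 7, 5, 4, 3, 2, 1, 0, 7, 5, 4, 3, 2, 1, 0, 7, 5, 4, 3, 2, 1, 0, 7, 5, 4, 3, 2, 1, 0] : List ℕ) = pw 9 [7, 5, 4, 3, 2, 1, 0] from rfl, evalW_pw]
  simp [evalW, mul_assoc]

theorem word37 : evalW σ [7, 6, 5, 4, 3, 2, 1, 7, 6, 5, 4, 3, 2, 1, 7, 6, 5, 4, 3, 2, 1, 7, 6, 5, 4, 3, 2, 1, 7, 6, 5, 4, 3, 2, 1, 7, 6, 5, 4, 3, 2, 1, 7, 6, 5, 4, 3, 2, 1, 7, 6, 5, 4, 3, 2, 1, 7, 6, 5, 4, 3, 2, 1] = (σ 1 * σ 2 * σ 3 * σ 4 * σ 5 * σ 6 * σ 7) ^ 9 := by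
  rw [show ([7, 6, 5, 4, 3, 2, 1, 7, 6, 5, 4, 3, 2, 1, 7, 6, 5, 4, 3, 2, 1, 7, 6, 5, 4, 3, 2, 1, 7, 6, 5, 4, 3, 2, 1, 7, 6, 5, 4, 3, 2, 1, 7, 6, 5, 4, 3, 2, 1, 7, 6, 5, 4, 3, 2, 1, 7, 6, 5, 4, 3, 2, 1] : List ℕ) = pw 9 [7, 6, 5, 4, 3, 2, 1] from rfl, evalW_pw]
  simp [evalW, mul_assoc]

theorem word38 : evalW σ [8, 7, 3, 5, 4, 3, 1, 2, 3, 8, 7, 3, 5, 4, 3, 1, 2, 3, 8, 7, 3, 5, 4, 3, 1, 2, 3, 8, 7, 3, 5, 4, 3, 1, 2, 3, 8, 7, 3, 5, 4, 3, 1, 2, 3, 8, 7, 3, 5, 4, 3, 1, 2, 3, 8, 7, 3, 5, 4, 3, 1, 2, 3, 8, 7, 3, 5, 4, 3, 1, 2, 3, 8, 7, 3, 5, 4, 3, 1, 2, 3, 8, 7, 3, 5, 4, 3, 1, 2, 3] = (σ 3 * σ 2 * σ 1 * σ 3 * σ 4 * σ 5 * σ 3 * σ 7 * σ 8) ^ 10 := by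
  rw [show ([8, 7, 3, 5, 4, 3, 1, 2, 3, 8, 7, 3, 5, 4, 3, 1, 2, 3, 8, 7, 3, 5, 4, 3, 1, 2, 3, 8, 7, 3, 5, 4, 3, 1, 2, 3, 8, 7, 3, 5, 4, 3, 1, 2, 3, 8, 7, 3, 5, 4, 3, 1, 2, 3, 8, 7, 3, 5, 4, 3, 1, 2, 3, 8, 7, 3, 5, 4, 3, 1, 2, 3, 8, 7, 3, 5, 4, 3, 1, 2, 3, 8, 7, 3, 5, 4, 3, 1, 2, 3] : List ℕ) = pw 10 [8, 7, 3, 5, 4, 3, 1, 2, 3] from rfl, evalW_pw]
  simp [evalW, mul_assoc]

theorem cox_of_words (hs : ∀ x, σ x * σ x = 1) (h : ∀ w ∈ relList, evalW σ w = 1) :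
    ∀ x y : Fi22.Gen, (σ (idx x) * σ (idx y)) ^ coxLabel Fi22.edges x y = 1
  | .a, .a => by show (σ 0 * σ 0) ^ 1 = 1; rw [pow_one, hs]
  | .a, .b => (word28 σ).symm.trans (h _ (by decide +kernel))
  | .a, .c => (word0 σ).symm.trans (h _ (by decide +kernel))
  | .a, .d => (word1 σ).symm.trans (h _ (by decide +kernel))
  | .a, .e => (word2 σ).symm.trans (h _ (by decide +kernel))
  | .a, .f => (word4 σ).symm.trans (h _ (by decide +kernel))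
  | .a, .g => (word5 σ).symm.trans (h _ (by decide +kernel))
  | .a, .h => (word3 σ).symm.trans (h _ (by decide +kernel))
  | .a, .i => (word6 σ).symm.trans (h _ (by decide +kernel))
  | .b, .a => (mul_pow_swap ((word28 σ).symm.trans (h _ (by decide +kernel))))
  | .b, .b => by show (σ 1 * σ 1) ^ 1 = 1; rw [pow_one, hs]
  | .b, .c => (word29 σ).symm.trans (h _ (by decide +kernel))
  | .b, .d => (word7 σ).symm.trans (h _ (by decide +kernel))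
  | .b, .e => (word8 σ).symm.trans (h _ (by decide +kernel))
  | .b, .f => (word10 σ).symm.trans (h _ (by decide +kernel))
  | .b, .g => (word11 σ).symm.trans (h _ (by decide +kernel))
  | .b, .h => (word9 σ).symm.trans (h _ (by decide +kernel))
  | .b, .i => (word12 σ).symm.trans (h _ (by decide +kernel))
  | .c, .a => (mul_pow_swap ((word0 σ).symm.trans (h _ (by decide +kernel))))
  | .c, .b => (mul_pow_swap ((word29 σ).symm.trans (h _ (by decide +kernel))))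
  | .c, .c => by show (σ 2 * σ 2) ^ 1 = 1; rw [pow_one, hs]
  | .c, .d => (word30 σ).symm.trans (h _ (by decide +kernel))
  | .c, .e => (word13 σ).symm.trans (h _ (by decide +kernel))
  | .c, .f => (word15 σ).symm.trans (h _ (by decide +kernel))
  | .c, .g => (word16 σ).symm.trans (h _ (by decide +kernel))
  | .c, .h => (word14 σ).symm.trans (h _ (by decide +kernel))
  | .c, .i => (word17 σ).symm.trans (h _ (by decide +kernel))
  | .d, .a => (mul_pow_swap ((word1 σ).symm.trans (h _ (by decide +kernel))))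
  | .d, .b => (mul_pow_swap ((word7 σ).symm.trans (h _ (by decide +kernel))))
  | .d, .c => (mul_pow_swap ((word30 σ).symm.trans (h _ (by decide +kernel))))
  | .d, .d => by show (σ 3 * σ 3) ^ 1 = 1; rw [pow_one, hs]
  | .d, .e => (word31 σ).symm.trans (h _ (by decide +kernel))
  | .d, .f => (word18 σ).symm.trans (h _ (by decide +kernel))
  | .d, .g => (word19 σ).symm.trans (h _ (by decide +kernel))
  | .d, .h => (word32 σ).symm.trans (h _ (by decide +kernel))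
  | .d, .i => (word20 σ).symm.trans (h _ (by decide +kernel))
  | .e, .a => (mul_pow_swap ((word2 σ).symm.trans (h _ (by decide +kernel))))
  | .e, .b => (mul_pow_swap ((word8 σ).symm.trans (h _ (by decide +kernel))))
  | .e, .c => (mul_pow_swap ((word13 σ).symm.trans (h _ (by decide +kernel))))
  | .e, .d => (mul_pow_swap ((word31 σ).symm.trans (h _ (by decide +kernel))))
  | .e, .e => by show (σ 4 * σ 4) ^ 1 = 1; rw [pow_one, hs]
  | .e, .f => (word33 σ).symm.trans (h _ (by decide +kernel))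
  | .e, .g => (word22 σ).symm.trans (h _ (by decide +kernel))
  | .e, .h => (word21 σ).symm.trans (h _ (by decide +kernel))
  | .e, .i => (word23 σ).symm.trans (h _ (by decide +kernel))
  | .f, .a => (mul_pow_swap ((word4 σ).symm.trans (h _ (by decide +kernel))))
  | .f, .b => (mul_pow_swap ((word10 σ).symm.trans (h _ (by decide +kernel))))
  | .f, .c => (mul_pow_swap ((word15 σ).symm.trans (h _ (by decide +kernel))))
  | .f, .d => (mul_pow_swap ((word18 σ).symm.trans (h _ (by decide +kernel))))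
  | .f, .e => (mul_pow_swap ((word33 σ).symm.trans (h _ (by decide +kernel))))
  | .f, .f => by show (σ 5 * σ 5) ^ 1 = 1; rw [pow_one, hs]
  | .f, .g => (word35 σ).symm.trans (h _ (by decide +kernel))
  | .f, .h => (mul_pow_swap ((word24 σ).symm.trans (h _ (by decide +kernel))))
  | .f, .i => (word26 σ).symm.trans (h _ (by decide +kernel))
  | .g, .a => (mul_pow_swap ((word5 σ).symm.trans (h _ (by decide +kernel))))
  | .g, .b => (mul_pow_swap ((word11 σ).symm.trans (h _ (by decide +kernel))))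
  | .g, .c => (mul_pow_swap ((word16 σ).symm.trans (h _ (by decide +kernel))))
  | .g, .d => (mul_pow_swap ((word19 σ).symm.trans (h _ (by decide +kernel))))
  | .g, .e => (mul_pow_swap ((word22 σ).symm.trans (h _ (by decide +kernel))))
  | .g, .f => (mul_pow_swap ((word35 σ).symm.trans (h _ (by decide +kernel))))
  | .g, .g => by show (σ 6 * σ 6) ^ 1 = 1; rw [pow_one, hs]
  | .g, .h => (mul_pow_swap ((word25 σ).symm.trans (h _ (by decide +kernel))))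
  | .g, .i => (word27 σ).symm.trans (h _ (by decide +kernel))
  | .h, .a => (mul_pow_swap ((word3 σ).symm.trans (h _ (by decide +kernel))))
  | .h, .b => (mul_pow_swap ((word9 σ).symm.trans (h _ (by decide +kernel))))
  | .h, .c => (mul_pow_swap ((word14 σ).symm.trans (h _ (by decide +kernel))))
  | .h, .d => (mul_pow_swap ((word32 σ).symm.trans (h _ (by decide +kernel))))
  | .h, .e => (mul_pow_swap ((word21 σ).symm.trans (h _ (by decide +kernel))))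
  | .h, .f => (word24 σ).symm.trans (h _ (by decide +kernel))
  | .h, .g => (word25 σ).symm.trans (h _ (by decide +kernel))
  | .h, .h => by show (σ 7 * σ 7) ^ 1 = 1; rw [pow_one, hs]
  | .h, .i => (word34 σ).symm.trans (h _ (by decide +kernel))
  | .i, .a => (mul_pow_swap ((word6 σ).symm.trans (h _ (by decide +kernel))))
  | .i, .b => (mul_pow_swap ((word12 σ).symm.trans (h _ (by decide +kernel))))
  | .i, .c => (mul_pow_swap ((word17 σ).symm.trans (h _ (by decide +kernel))))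
  | .i, .d => (mul_pow_swap ((word20 σ).symm.trans (h _ (by decide +kernel))))
  | .i, .e => (mul_pow_swap ((word23 σ).symm.trans (h _ (by decide +kernel))))
  | .i, .f => (mul_pow_swap ((word26 σ).symm.trans (h _ (by decide +kernel))))
  | .i, .g => (mul_pow_swap ((word27 σ).symm.trans (h _ (by decide +kernel))))
  | .i, .h => (mul_pow_swap ((word34 σ).symm.trans (h _ (by decide +kernel))))
  | .i, .i => by show (σ 8 * σ 8) ^ 1 = 1; rw [pow_one, hs]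

/-- Every group with involutions satisfying the words receives a homomorphism. -/
theorem exists_hom (hs : ∀ x, σ x * σ x = 1) (h : ∀ w ∈ relList, evalW σ w = 1) :
    ∃ f : Fi22 →* K, ∀ x < 9, f (gens x) = σ x := by
  have hr : ∀ r ∈ coxRelators Fi22.edges ∪ {r | r ∈ Fi22.extra},
      FreeGroup.lift (fun x : Fi22.Gen => σ (idx x)) r = 1 := by
    rintro r (⟨x, -, y, -, rfl⟩ | hr)
    · simpa using cox_of_words σ hs h x y
    · simp only [Set.mem_setOf_eq, Fi22.extra, List.mem_cons, List.not_mem_nil, or_false] at hr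
      rcases hr with rfl | rfl | rfl
      · simpa [idx] using (word38 σ).symm.trans (h _ (by decide +kernel))
      · simpa [idx] using (word36 σ).symm.trans (h _ (by decide +kernel))
      · simpa [idx] using (word37 σ).symm.trans (h _ (by decide +kernel))
  refine ⟨PresentedGroup.toGroup hr, fun x hx => ?_⟩
  interval_cases x <;> exact PresentedGroup.toGroup.of hr

theorem gens_cox (x y : Fi22.Gen) :
    (PresentedGroup.of x * PresentedGroup.of y : Fi22) ^ coxLabel Fi22.edges x y = 1 := by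
  have hx : ∀ z : Fi22.Gen, z ∈ coxNodes Fi22.edges := by intro z; cases z <;> decide
  have := PresentedGroup.one_of_mem (rels := coxRelators Fi22.edges ∪ {r | r ∈ Fi22.extra})
    (x := (FreeGroup.of x * FreeGroup.of y) ^ coxLabel Fi22.edges x y)
    (Or.inl ⟨x, hx x, y, hx y, rfl⟩)
  rw [map_pow, map_mul] at this
  exact this

theorem gens_sq (n : ℕ) : gens n * gens n = 1 := by
  unfold gens
  split <;> first | exact mul_one _ | exact (pow_one _).symm.trans (gens_cox _ _)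

theorem gens_out (n : ℕ) (hn : 9 ≤ n) : gens n = 1 := by
  unfold gens
  split <;> first | omega | rfl

theorem gens_top : Subgroup.closure (Set.range gens) = ⊤ := by
  rw [eq_top_iff, ← PresentedGroup.closure_range_of]
  exact Subgroup.closure_mono (by rintro _ ⟨x, rfl⟩; exact ⟨idx x, gens_idx x⟩)

theorem gens_extra (r : FreeGroup Fi22.Gen) (hr : r ∈ Fi22.extra) :
    PresentedGroup.mk (coxRelators Fi22.edges ∪ {r | r ∈ Fi22.extra}) r = 1 :=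
  PresentedGroup.one_of_mem (Or.inr hr)

theorem gens_rels : ∀ w ∈ relList, evalW gens w = 1 := by
  intro w hw
  simp only [relList, List.mem_cons, List.not_mem_nil, or_false] at hw
  rcases hw with rfl | rfl | rfl | rfl | rfl | rfl | rfl | rfl | rfl | rfl | rfl | rfl | rfl | rfl | rfl | rfl | rfl | rfl | rfl | rfl | rfl | rfl | rfl | rfl | rfl | rfl | rfl | rfl | rfl | rfl | rfl | rfl | rfl | rfl | rfl | rfl | rfl | rfl | rfl | rfl | rfl | rfl | rfl | rfl | rfl | rfl | rfl | rfl | rfl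
  · rw [word0]; exact gens_cox Fi22.Gen.a Fi22.Gen.c
  · rw [word1]; exact gens_cox Fi22.Gen.a Fi22.Gen.d
  · rw [word2]; exact gens_cox Fi22.Gen.a Fi22.Gen.e
  · rw [word3]; exact gens_cox Fi22.Gen.a Fi22.Gen.h
  · rw [word4]; exact gens_cox Fi22.Gen.a Fi22.Gen.f
  · rw [word5]; exact gens_cox Fi22.Gen.a Fi22.Gen.g
  · rw [word6]; exact gens_cox Fi22.Gen.a Fi22.Gen.i
  · rw [word7]; exact gens_cox Fi22.Gen.b Fi22.Gen.d
  · rw [word8]; exact gens_cox Fi22.Gen.b Fi22.Gen.e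
  · rw [word9]; exact gens_cox Fi22.Gen.b Fi22.Gen.h
  · rw [word10]; exact gens_cox Fi22.Gen.b Fi22.Gen.f
  · rw [word11]; exact gens_cox Fi22.Gen.b Fi22.Gen.g
  · rw [word12]; exact gens_cox Fi22.Gen.b Fi22.Gen.i
  · rw [word13]; exact gens_cox Fi22.Gen.c Fi22.Gen.e
  · rw [word14]; exact gens_cox Fi22.Gen.c Fi22.Gen.h
  · rw [word15]; exact gens_cox Fi22.Gen.c Fi22.Gen.f
  · rw [word16]; exact gens_cox Fi22.Gen.c Fi22.Gen.g
  · rw [word17]; exact gens_cox Fi22.Gen.c Fi22.Gen.i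
  · rw [word18]; exact gens_cox Fi22.Gen.d Fi22.Gen.f
  · rw [word19]; exact gens_cox Fi22.Gen.d Fi22.Gen.g
  · rw [word20]; exact gens_cox Fi22.Gen.d Fi22.Gen.i
  · rw [word21]; exact gens_cox Fi22.Gen.e Fi22.Gen.h
  · rw [word22]; exact gens_cox Fi22.Gen.e Fi22.Gen.g
  · rw [word23]; exact gens_cox Fi22.Gen.e Fi22.Gen.i
  · rw [word24]; exact gens_cox Fi22.Gen.h Fi22.Gen.f
  · rw [word25]; exact gens_cox Fi22.Gen.h Fi22.Gen.g
  · rw [word26]; exact gens_cox Fi22.Gen.f Fi22.Gen.i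
  · rw [word27]; exact gens_cox Fi22.Gen.g Fi22.Gen.i
  · rw [word28]; exact gens_cox Fi22.Gen.a Fi22.Gen.b
  · rw [word29]; exact gens_cox Fi22.Gen.b Fi22.Gen.c
  · rw [word30]; exact gens_cox Fi22.Gen.c Fi22.Gen.d
  · rw [word31]; exact gens_cox Fi22.Gen.d Fi22.Gen.e
  · rw [word32]; exact gens_cox Fi22.Gen.d Fi22.Gen.h
  · rw [word33]; exact gens_cox Fi22.Gen.e Fi22.Gen.f
  · rw [word34]; exact gens_cox Fi22.Gen.h Fi22.Gen.i
  · rw [word35]; exact gens_cox Fi22.Gen.f Fi22.Gen.g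
  · rw [word36]; refine Eq.trans ?_ (gens_extra ((Fi22.a * Fi22.b * Fi22.c * Fi22.d * Fi22.e * Fi22.f * Fi22.h) ^ 9) (by simp [Fi22.extra])); simp only [_root_.map_mul, _root_.map_inv, _root_.map_pow]; rfl
  · rw [word37]; refine Eq.trans ?_ (gens_extra ((Fi22.b * Fi22.c * Fi22.d * Fi22.e * Fi22.f * Fi22.g * Fi22.h) ^ 9) (by simp [Fi22.extra])); simp only [_root_.map_mul, _root_.map_inv, _root_.map_pow]; rfl
  · rw [word38]; refine Eq.trans ?_ (gens_extra ((Fi22.d * Fi22.c * Fi22.b * Fi22.d * Fi22.e * Fi22.f * Fi22.d * Fi22.h * Fi22.i) ^ 10) (by simp [Fi22.extra])); simp only [_root_.map_mul, _root_.map_inv, _root_.map_pow]; rfl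
  · simp [evalW, gens_sq]
  · simp [evalW, gens_sq]
  · simp [evalW, gens_sq]
  · simp [evalW, gens_sq]
  · simp [evalW, gens_sq]
  · simp [evalW, gens_sq]
  · simp [evalW, gens_sq]
  · simp [evalW, gens_sq]
  · simp [evalW, gens_sq]
  · rfl

end Cfsg.Agent.Screen.CosetEnum.PresFi22
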