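import Cfsg.Agent.Screen.CosetEnum.Order

/-!
# Tables used only for upper bounds, and words proved trivial by a certificate
-/

set_option autoImplicit false

namespace Cfsg.Agent.Screen.CosetEnum

/-- Check the entries of `k` rows from `c`, as far as they exist. -/
def Tab.linkRows (T : Tab) : ℕ → ℕ → Bool
  | 0, _ => true
  | k + 1, c => bif Nat.blt c T.n then T.rowGo c T.ng && force (c + 1) fun d => T.linkRows k d else true

/-- The small checks of a table used for an upper bound. -/
def Tab.linkBase (T : Tab) : Bool := Nat.blt 0 T.n && Nat.beq (T.nd 0) 0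

/-- What an upper bound needs. -/
structure Tab.Linked (T : Tab) : Prop where
  facts : ∀ b, 24 * b < T.nf → block T.toCert b = true
  rows : ∀ c < T.n, T.rowGo c T.ng = true
  base : T.linkBase = true

variable {T : Tab}

theorem Tab.linkRows_spec : ∀ k c₀, T.linkRows k c₀ = true → ∀ c, c₀ ≤ c → c < c₀ + k → c < T.n →
    T.rowGo c T.ng = true := by
  intro k
  induction k with
  | zero => intro c₀ _ c h1 h2; omega
  | succ k ih =>
    intro c₀ h c h1 h2 h3
    unfold Tab.linkRows at h
    have hb : Nat.blt c₀ T.n = true := by simp [Nat.blt_eq]; omega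
    simp only [hb, cond_true, Bool.and_eq_true, force_eq] at h
    rcases Nat.lt_or_ge c₀ c with h4 | h4
    · exact ih _ h.2 c h4 (by omega) h3
    · obtain rfl : c₀ = c := by omega
      exact h.1

theorem Tab.Linked.pos (hT : T.Linked) : 0 < T.n := by
  have h := hT.base
  simp only [Tab.linkBase, Bool.and_eq_true, Nat.blt_eq] at h
  exact h.1

theorem Tab.Linked.nd_zero (hT : T.Linked) : T.nd 0 = 0 := by
  have h := hT.base
  simp only [Tab.linkBase, Bool.and_eq_true] at h
  exact Nat.eq_of_beq_eq_true h.2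

theorem Tab.Linked.entry (hT : T.Linked) {c x : ℕ} (hc : c < T.n) (hx : x < T.ng) :
    T.img c x < T.n ∧ T.img (T.img c x) x = c ∧ T.why c x < T.nf ∧ T.fx (T.why c x) = x ∧
      ((T.fu (T.why c x) = T.nd c ∧ T.fv (T.why c x) = T.nd (T.img c x)) ∨
        (T.fv (T.why c x) = T.nd c ∧ T.fu (T.why c x) = T.nd (T.img c x))) := by
  have h2 := Tab.rowGo_spec (hT.rows c hc) x hx
  simp only [Tab.entryOK, Bool.and_eq_true, Bool.or_eq_true, Nat.blt_eq] at h2
  obtain ⟨⟨⟨⟨a, b⟩, d⟩, e⟩, f⟩ := h2
  exact ⟨a, Nat.eq_of_beq_eq_true b, d, Nat.eq_of_beq_eq_true e,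
    f.imp (fun g => ⟨Nat.eq_of_beq_eq_true g.1, Nat.eq_of_beq_eq_true g.2⟩)
      (fun g => ⟨Nat.eq_of_beq_eq_true g.1, Nat.eq_of_beq_eq_true g.2⟩)⟩

/-- A linked table bounds the order of a generated subgroup. -/
theorem Tab.Linked.card_le {G : Type*} [Group G] (hT : T.Linked) (gen : ℕ → G) (hgen : ∀ x, gen x * gen x = 1)
    (hid : gen T.ng = 1) (hrels : ∀ w ∈ T.rels, evalW gen w = 1) (K H : Subgroup G)
    (hK : K = Subgroup.closure {g | ∃ x < T.ng, g = gen x})
    (hH : H = Subgroup.closure {g | ∃ w ∈ T.subs, g = evalW gen w}) (hfin : Finite H) :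
    Finite K ∧ Nat.card K ≤ T.n * Nat.card H := by
  haveI := hfin
  obtain ⟨val, hv0, hval⟩ := exists_val (C := T.toCert) (Q := G ⧸ H) (q₀ := QuotientGroup.mk 1)
    hgen hid (fun w hw q => by rw [hrels w hw, one_smul])
    (fun w hw => by
      rw [MulAction.Quotient.smul_mk, smul_eq_mul, mul_one, QuotientGroup.eq, mul_one]
      exact inv_mem (hH ▸ Subgroup.subset_closure ⟨w, hw, rfl⟩))
    hT.facts
  set t : Set (G ⧸ H) := Set.range fun c : Fin T.n => val (T.nd c) with ht
  have h1 : (QuotientGroup.mk 1 : G ⧸ H) ∈ t := ⟨⟨0, hT.pos⟩, by simp only; rw [hT.nd_zero, hv0]⟩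
  have hfint : t.Finite := Set.finite_range _
  have hinv : ∀ g ∈ K, ∀ q ∈ t, g • q ∈ t := by
    intro g hg
    rw [hK] at hg
    induction hg using Subgroup.closure_induction with
    | mem y hy =>
      obtain ⟨x, hx, rfl⟩ := hy
      rintro _ ⟨c, rfl⟩
      obtain ⟨hlt, -, hw, hfx, hends⟩ := hT.entry c.isLt hx
      have h := hval _ hw
      rw [Holds, hfx] at h
      refine ⟨⟨_, hlt⟩, ?_⟩
      rcases hends with ⟨a, b⟩ | ⟨a, b⟩
      · rw [a, b] at h; exact h.symm
      · rw [a, b] at h
        simp only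
        rw [← h, ← mul_smul, hgen, one_smul]
    | one => exact fun q hq => by rw [one_smul]; exact hq
    | mul a b _ _ ha hb => exact fun q hq => by rw [mul_smul]; exact ha _ (hb q hq)
    | inv a _ ha =>
      intro q hq
      haveI := hfint.to_subtype
      let σ : t → t := fun u => ⟨a • u.1, ha u.1 u.2⟩
      have hσ : Function.Injective σ := fun u v huv =>
        Subtype.ext (smul_left_cancel a (congrArg Subtype.val huv))
      obtain ⟨u, hu⟩ := (Finite.injective_iff_surjective.1 hσ) ⟨q, hq⟩
      rw [← show a • u.1 = q from congrArg Subtype.val hu, inv_smul_smul]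
      exact u.2
  have hsub : (K : Set G) ⊆ QuotientGroup.mk ⁻¹' t := fun g hg => by
    have := hinv g hg _ h1
    rwa [MulAction.Quotient.smul_mk, smul_eq_mul, mul_one] at this
  haveI := hfint.to_subtype
  haveI : Finite ↥(QuotientGroup.mk ⁻¹' t : Set G) :=
    Finite.of_equiv _ (QuotientGroup.preimageMkEquivSubgroupProdSet H t).symm
  have hK' : Finite K :=
    Finite.of_injective (fun g : K => (⟨g.1, hsub g.2⟩ : ↥(QuotientGroup.mk ⁻¹' t : Set G)))
      (fun a b hab => Subtype.ext (congrArg Subtype.val hab :))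
  refine ⟨hK', ?_⟩
  calc Nat.card K ≤ Nat.card ↥(QuotientGroup.mk ⁻¹' t : Set G) :=
        Nat.card_le_card_of_injective (fun g : K => (⟨g.1, hsub g.2⟩ : ↥(QuotientGroup.mk ⁻¹' t : Set G)))
          (fun a b hab => Subtype.ext (congrArg Subtype.val hab :))
    _ = Nat.card H * Nat.card t := by
        rw [Nat.card_congr (QuotientGroup.preimageMkEquivSubgroupProdSet H t), Nat.card_prod]
    _ ≤ Nat.card H * T.n := by
        refine Nat.mul_le_mul le_rfl ?_
        rw [Nat.card_coe_set_eq]
        simpa using Finite.card_range_le (fun c : Fin T.n => val (T.nd c))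
    _ = T.n * Nat.card H := Nat.mul_comm _ _

/-- Check that a path of facts reads the word `w` from the base node back to it. -/
def Cert.closes (C : Cert) (w : List ℕ) (path : ℕ) : Bool :=
  match walk C C.nf w.length 0 w path with
  | some (v, [], _) => Nat.beq v 0
  | _ => false

/-- A certificate proves that a word is trivial. -/
theorem word_trivial {G : Type*} [Group G] {C : Cert} (gen : ℕ → G) (hinv : ∀ x, gen x * gen x = 1)
    (hid : gen C.ng = 1) (hrels : ∀ w ∈ C.rels, evalW gen w = 1) (hsubs : ∀ w ∈ C.subs, evalW gen w = 1)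
    (hblk : ∀ b, 24 * b < C.nf → block C b = true) {w : List ℕ} {path : ℕ} (hw : C.closes w path = true) :
    evalW gen w = 1 := by
  obtain ⟨val, hv0, hval⟩ := exists_val (Q := G) (q₀ := 1) hinv hid
    (fun u hu q => by rw [hrels u hu, one_smul]) (fun u hu => by rw [hsubs u hu, one_smul]) hblk
  unfold Cert.closes at hw
  split at hw
  · rename_i v t hwalk
    obtain ⟨c, hc, hsm⟩ := walk_sound hinv hid hval _ _ _ _ _ _ _ hwalk
    rw [List.append_nil] at hc
    subst hc
    rw [Nat.eq_of_beq_eq_true hw, hv0, smul_eq_mul, mul_one] at hsm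
    exact hsm
  · simp at hw

end Cfsg.Agent.Screen.CosetEnum
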