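import Cfsg.Agent.Screen.CosetEnum.Table
import Cfsg.Prelude.Def_Spor_He

/-!
# The presentation of He as a list of words
-/

set_option autoImplicit false
set_option maxRecDepth 20000

namespace Cfsg.Agent.Screen.CosetEnum.PresHe

open Cfsg.Agent.Screen.CosetEnum Cfsg.Spor

/-- Number of a generator. -/
def idx : He.Gen → ℕ
  | .a => 0
  | .b => 1
  | .c => 2
  | .d => 3
  | .e => 4
  | .f => 5
  | .g => 6

/-- The generators, numbered; other numbers give `1`. -/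
def gens (n : ℕ) : He :=
  match n with
  | 0 => PresentedGroup.of He.Gen.a
  | 1 => PresentedGroup.of He.Gen.b
  | 2 => PresentedGroup.of He.Gen.c
  | 3 => PresentedGroup.of He.Gen.d
  | 4 => PresentedGroup.of He.Gen.e
  | 5 => PresentedGroup.of He.Gen.f
  | 6 => PresentedGroup.of He.Gen.g
  | _ => 1

theorem gens_idx (x : He.Gen) : gens (idx x) = PresentedGroup.of x := by cases x <;> rfl

theorem idx_lt (x : He.Gen) : idx x < 7 := by cases x <;> decide

/-- The relators as words. -/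
def relList : List (List ℕ) :=
  [[2, 0, 2, 0],
   [3, 0, 3, 0],
   [4, 0, 4, 0],
   [5, 0, 5, 0],
   [6, 0, 6, 0],
   [3, 1, 3, 1],
   [4, 1, 4, 1],
   [5, 1, 5, 1],
   [6, 1, 6, 1],
   [4, 2, 4, 2],
   [5, 2, 5, 2],
   [6, 2, 6, 2],
   [5, 4, 5, 4],
   [6, 4, 6, 4],
   [5, 6, 5, 6, 4],
   [2, 1, 2, 1, 2, 1],
   [4, 3, 4, 3, 4, 3],
   [5, 3, 5, 3, 5, 3],
   [6, 3, 6, 3, 6, 3],
   [1, 0, 1, 0, 1, 0, 1, 0],
   [6, 5, 6, 5, 6, 5, 6, 5],
   [0, 1, 2, 0, 1, 2, 0, 1, 2, 4],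
   [2, 3, 2, 3, 2, 3, 2, 3, 2, 3, 0],
   [6, 5, 3, 2, 6, 5, 3, 2, 6, 5, 3, 2, 6, 5, 3, 2],
   [3, 2, 3, 2, 3, 2, 3, 2, 3, 2, 3, 2, 3, 2, 3, 2, 3, 2, 3, 2],
   [0, 0],
   [1, 1],
   [2, 2],
   [3, 3],
   [4, 4],
   [5, 5],
   [6, 6],
   []]

theorem mul_pow_swap {G : Type*} [Group G] {a b : G} {m : ℕ} (h : (a * b) ^ m = 1) : (b * a) ^ m = 1 := by
  rw [show b * a = b * (a * b) * b⁻¹ by group, conj_pow, h, mul_one, mul_inv_cancel]

variable {K : Type*} [Group K] (σ : ℕ → K)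

theorem word0 : evalW σ [2, 0, 2, 0] = (σ 0 * σ 2) ^ 2 := by
  rw [show ([2, 0, 2, 0] : List ℕ) = pw 2 [2, 0] from rfl, evalW_pw]
  simp [evalW]

theorem word1 : evalW σ [3, 0, 3, 0] = (σ 0 * σ 3) ^ 2 := by
  rw [show ([3, 0, 3, 0] : List ℕ) = pw 2 [3, 0] from rfl, evalW_pw]
  simp [evalW]

theorem word2 : evalW σ [4, 0, 4, 0] = (σ 0 * σ 4) ^ 2 := by
  rw [show ([4, 0, 4, 0] : List ℕ) = pw 2 [4, 0] from rfl, evalW_pw]
  simp [evalW]

theorem word3 : evalW σ [5, 0, 5, 0] = (σ 0 * σ 5) ^ 2 := by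
  rw [show ([5, 0, 5, 0] : List ℕ) = pw 2 [5, 0] from rfl, evalW_pw]
  simp [evalW]

theorem word4 : evalW σ [6, 0, 6, 0] = (σ 0 * σ 6) ^ 2 := by
  rw [show ([6, 0, 6, 0] : List ℕ) = pw 2 [6, 0] from rfl, evalW_pw]
  simp [evalW]

theorem word5 : evalW σ [3, 1, 3, 1] = (σ 1 * σ 3) ^ 2 := by
  rw [show ([3, 1, 3, 1] : List ℕ) = pw 2 [3, 1] from rfl, evalW_pw]
  simp [evalW]

theorem word6 : evalW σ [4, 1, 4, 1] = (σ 1 * σ 4) ^ 2 := by
  rw [show ([4, 1, 4, 1] : List ℕ) = pw 2 [4, 1] from rfl, evalW_pw]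
  simp [evalW]

theorem word7 : evalW σ [5, 1, 5, 1] = (σ 1 * σ 5) ^ 2 := by
  rw [show ([5, 1, 5, 1] : List ℕ) = pw 2 [5, 1] from rfl, evalW_pw]
  simp [evalW]

theorem word8 : evalW σ [6, 1, 6, 1] = (σ 1 * σ 6) ^ 2 := by
  rw [show ([6, 1, 6, 1] : List ℕ) = pw 2 [6, 1] from rfl, evalW_pw]
  simp [evalW]

theorem word9 : evalW σ [4, 2, 4, 2] = (σ 2 * σ 4) ^ 2 := by
  rw [show ([4, 2, 4, 2] : List ℕ) = pw 2 [4, 2] from rfl, evalW_pw]
  simp [evalW]

theorem word10 : evalW σ [5, 2, 5, 2] = (σ 2 * σ 5) ^ 2 := by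
  rw [show ([5, 2, 5, 2] : List ℕ) = pw 2 [5, 2] from rfl, evalW_pw]
  simp [evalW]

theorem word11 : evalW σ [6, 2, 6, 2] = (σ 2 * σ 6) ^ 2 := by
  rw [show ([6, 2, 6, 2] : List ℕ) = pw 2 [6, 2] from rfl, evalW_pw]
  simp [evalW]

theorem word12 : evalW σ [5, 4, 5, 4] = (σ 4 * σ 5) ^ 2 := by
  rw [show ([5, 4, 5, 4] : List ℕ) = pw 2 [5, 4] from rfl, evalW_pw]
  simp [evalW]

theorem word13 : evalW σ [6, 4, 6, 4] = (σ 4 * σ 6) ^ 2 := by
  rw [show ([6, 4, 6, 4] : List ℕ) = pw 2 [6, 4] from rfl, evalW_pw]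
  simp [evalW]

theorem word14 (hs : ∀ x, σ x * σ x = 1) : evalW σ [5, 6, 5, 6, 4] = σ 4 * ((σ 5 * σ 6) ^ 2)⁻¹ := by
  have hi : ∀ x, (σ x)⁻¹ = σ x := fun x => inv_eq_of_mul_eq_one_right (hs x)
  simp [evalW, pow_succ, mul_assoc, mul_inv_rev, hi]

theorem word15 : evalW σ [2, 1, 2, 1, 2, 1] = (σ 1 * σ 2) ^ 3 := by
  rw [show ([2, 1, 2, 1, 2, 1] : List ℕ) = pw 3 [2, 1] from rfl, evalW_pw]
  simp [evalW]

theorem word16 : evalW σ [4, 3, 4, 3, 4, 3] = (σ 3 * σ 4) ^ 3 := by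
  rw [show ([4, 3, 4, 3, 4, 3] : List ℕ) = pw 3 [4, 3] from rfl, evalW_pw]
  simp [evalW]

theorem word17 : evalW σ [5, 3, 5, 3, 5, 3] = (σ 3 * σ 5) ^ 3 := by
  rw [show ([5, 3, 5, 3, 5, 3] : List ℕ) = pw 3 [5, 3] from rfl, evalW_pw]
  simp [evalW]

theorem word18 : evalW σ [6, 3, 6, 3, 6, 3] = (σ 3 * σ 6) ^ 3 := by
  rw [show ([6, 3, 6, 3, 6, 3] : List ℕ) = pw 3 [6, 3] from rfl, evalW_pw]
  simp [evalW]

theorem word19 : evalW σ [1, 0, 1, 0, 1, 0, 1, 0] = (σ 0 * σ 1) ^ 4 := by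
  rw [show ([1, 0, 1, 0, 1, 0, 1, 0] : List ℕ) = pw 4 [1, 0] from rfl, evalW_pw]
  simp [evalW]

theorem word20 : evalW σ [6, 5, 6, 5, 6, 5, 6, 5] = (σ 5 * σ 6) ^ 4 := by
  rw [show ([6, 5, 6, 5, 6, 5, 6, 5] : List ℕ) = pw 4 [6, 5] from rfl, evalW_pw]
  simp [evalW]

theorem word21 (hs : ∀ x, σ x * σ x = 1) : evalW σ [0, 1, 2, 0, 1, 2, 0, 1, 2, 4] = σ 4 * ((σ 0 * σ 1 * σ 2) ^ 3)⁻¹ := by
  have hi : ∀ x, (σ x)⁻¹ = σ x := fun x => inv_eq_of_mul_eq_one_right (hs x)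
  simp [evalW, pow_succ, mul_assoc, mul_inv_rev, hi]

theorem word22 (hs : ∀ x, σ x * σ x = 1) : evalW σ [2, 3, 2, 3, 2, 3, 2, 3, 2, 3, 0] = σ 0 * ((σ 2 * σ 3) ^ 5)⁻¹ := by
  have hi : ∀ x, (σ x)⁻¹ = σ x := fun x => inv_eq_of_mul_eq_one_right (hs x)
  simp [evalW, pow_succ, mul_assoc, mul_inv_rev, hi]

theorem word23 : evalW σ [6, 5, 3, 2, 6, 5, 3, 2, 6, 5, 3, 2, 6, 5, 3, 2] = (σ 2 * σ 3 * σ 5 * σ 6) ^ 4 := by
  rw [show ([6, 5, 3, 2, 6, 5, 3, 2, 6, 5, 3, 2, 6, 5, 3, 2] : List ℕ) = pw 4 [6, 5, 3, 2] from rfl, evalW_pw]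
  simp [evalW, mul_assoc]

theorem word24 : evalW σ [3, 2, 3, 2, 3, 2, 3, 2, 3, 2, 3, 2, 3, 2, 3, 2, 3, 2, 3, 2] = (σ 2 * σ 3) ^ 10 := by
  rw [show ([3, 2, 3, 2, 3, 2, 3, 2, 3, 2, 3, 2, 3, 2, 3, 2, 3, 2, 3, 2] : List ℕ) = pw 10 [3, 2] from rfl, evalW_pw]
  simp [evalW]

theorem cox_of_words (hs : ∀ x, σ x * σ x = 1) (h : ∀ w ∈ relList, evalW σ w = 1) :
    ∀ x y : He.Gen, (σ (idx x) * σ (idx y)) ^ coxLabel He.edges x y = 1
  | .a, .a => by show (σ 0 * σ 0) ^ 1 = 1; rw [pow_one, hs]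
  | .a, .b => (word19 σ).symm.trans (h _ (by decide +kernel))
  | .a, .c => (word0 σ).symm.trans (h _ (by decide +kernel))
  | .a, .d => (word1 σ).symm.trans (h _ (by decide +kernel))
  | .a, .e => (word2 σ).symm.trans (h _ (by decide +kernel))
  | .a, .f => (word3 σ).symm.trans (h _ (by decide +kernel))
  | .a, .g => (word4 σ).symm.trans (h _ (by decide +kernel))
  | .b, .a => (mul_pow_swap ((word19 σ).symm.trans (h _ (by decide +kernel))))
  | .b, .b => by show (σ 1 * σ 1) ^ 1 = 1; rw [pow_one, hs]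
  | .b, .c => (word15 σ).symm.trans (h _ (by decide +kernel))
  | .b, .d => (word5 σ).symm.trans (h _ (by decide +kernel))
  | .b, .e => (word6 σ).symm.trans (h _ (by decide +kernel))
  | .b, .f => (word7 σ).symm.trans (h _ (by decide +kernel))
  | .b, .g => (word8 σ).symm.trans (h _ (by decide +kernel))
  | .c, .a => (mul_pow_swap ((word0 σ).symm.trans (h _ (by decide +kernel))))
  | .c, .b => (mul_pow_swap ((word15 σ).symm.trans (h _ (by decide +kernel))))
  | .c, .c => by show (σ 2 * σ 2) ^ 1 = 1; rw [pow_one, hs]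
  | .c, .d => (word24 σ).symm.trans (h _ (by decide +kernel))
  | .c, .e => (word9 σ).symm.trans (h _ (by decide +kernel))
  | .c, .f => (word10 σ).symm.trans (h _ (by decide +kernel))
  | .c, .g => (word11 σ).symm.trans (h _ (by decide +kernel))
  | .d, .a => (mul_pow_swap ((word1 σ).symm.trans (h _ (by decide +kernel))))
  | .d, .b => (mul_pow_swap ((word5 σ).symm.trans (h _ (by decide +kernel))))
  | .d, .c => (mul_pow_swap ((word24 σ).symm.trans (h _ (by decide +kernel))))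
  | .d, .d => by show (σ 3 * σ 3) ^ 1 = 1; rw [pow_one, hs]
  | .d, .e => (word16 σ).symm.trans (h _ (by decide +kernel))
  | .d, .f => (word17 σ).symm.trans (h _ (by decide +kernel))
  | .d, .g => (word18 σ).symm.trans (h _ (by decide +kernel))
  | .e, .a => (mul_pow_swap ((word2 σ).symm.trans (h _ (by decide +kernel))))
  | .e, .b => (mul_pow_swap ((word6 σ).symm.trans (h _ (by decide +kernel))))
  | .e, .c => (mul_pow_swap ((word9 σ).symm.trans (h _ (by decide +kernel))))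
  | .e, .d => (mul_pow_swap ((word16 σ).symm.trans (h _ (by decide +kernel))))
  | .e, .e => by show (σ 4 * σ 4) ^ 1 = 1; rw [pow_one, hs]
  | .e, .f => (word12 σ).symm.trans (h _ (by decide +kernel))
  | .e, .g => (word13 σ).symm.trans (h _ (by decide +kernel))
  | .f, .a => (mul_pow_swap ((word3 σ).symm.trans (h _ (by decide +kernel))))
  | .f, .b => (mul_pow_swap ((word7 σ).symm.trans (h _ (by decide +kernel))))
  | .f, .c => (mul_pow_swap ((word10 σ).symm.trans (h _ (by decide +kernel))))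
  | .f, .d => (mul_pow_swap ((word17 σ).symm.trans (h _ (by decide +kernel))))
  | .f, .e => (mul_pow_swap ((word12 σ).symm.trans (h _ (by decide +kernel))))
  | .f, .f => by show (σ 5 * σ 5) ^ 1 = 1; rw [pow_one, hs]
  | .f, .g => (word20 σ).symm.trans (h _ (by decide +kernel))
  | .g, .a => (mul_pow_swap ((word4 σ).symm.trans (h _ (by decide +kernel))))
  | .g, .b => (mul_pow_swap ((word8 σ).symm.trans (h _ (by decide +kernel))))
  | .g, .c => (mul_pow_swap ((word11 σ).symm.trans (h _ (by decide +kernel))))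
  | .g, .d => (mul_pow_swap ((word18 σ).symm.trans (h _ (by decide +kernel))))
  | .g, .e => (mul_pow_swap ((word13 σ).symm.trans (h _ (by decide +kernel))))
  | .g, .f => (mul_pow_swap ((word20 σ).symm.trans (h _ (by decide +kernel))))
  | .g, .g => by show (σ 6 * σ 6) ^ 1 = 1; rw [pow_one, hs]

/-- Every group with involutions satisfying the words receives a homomorphism. -/
theorem exists_hom (hs : ∀ x, σ x * σ x = 1) (h : ∀ w ∈ relList, evalW σ w = 1) :
    ∃ f : He →* K, ∀ x < 7, f (gens x) = σ x := by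
  have hr : ∀ r ∈ coxRelators He.edges ∪ {r | r ∈ He.extra},
      FreeGroup.lift (fun x : He.Gen => σ (idx x)) r = 1 := by
    rintro r (⟨x, -, y, -, rfl⟩ | hr)
    · simpa using cox_of_words σ hs h x y
    · simp only [Set.mem_setOf_eq, He.extra, List.mem_cons, List.not_mem_nil, or_false] at hr
      rcases hr with rfl | rfl | rfl | rfl
      · simpa [idx] using (word14 σ hs).symm.trans (h _ (by decide +kernel))
      · simpa [idx] using (word21 σ hs).symm.trans (h _ (by decide +kernel))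
      · simpa [idx] using (word22 σ hs).symm.trans (h _ (by decide +kernel))
      · simpa [idx] using (word23 σ).symm.trans (h _ (by decide +kernel))
  refine ⟨PresentedGroup.toGroup hr, fun x hx => ?_⟩
  interval_cases x <;> exact PresentedGroup.toGroup.of hr

theorem gens_cox (x y : He.Gen) :
    (PresentedGroup.of x * PresentedGroup.of y : He) ^ coxLabel He.edges x y = 1 := by
  have hx : ∀ z : He.Gen, z ∈ coxNodes He.edges := by intro z; cases z <;> decide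
  have := PresentedGroup.one_of_mem (rels := coxRelators He.edges ∪ {r | r ∈ He.extra})
    (x := (FreeGroup.of x * FreeGroup.of y) ^ coxLabel He.edges x y)
    (Or.inl ⟨x, hx x, y, hx y, rfl⟩)
  rw [map_pow, map_mul] at this
  exact this

theorem gens_sq (n : ℕ) : gens n * gens n = 1 := by
  unfold gens
  split <;> first | exact mul_one _ | exact (pow_one _).symm.trans (gens_cox _ _)

theorem gens_out (n : ℕ) (hn : 7 ≤ n) : gens n = 1 := by
  unfold gens
  split <;> first | omega | rfl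

theorem gens_top : Subgroup.closure (Set.range gens) = ⊤ := by
  rw [eq_top_iff, ← PresentedGroup.closure_range_of]
  exact Subgroup.closure_mono (by rintro _ ⟨x, rfl⟩; exact ⟨idx x, gens_idx x⟩)

theorem gens_extra (r : FreeGroup He.Gen) (hr : r ∈ He.extra) :
    PresentedGroup.mk (coxRelators He.edges ∪ {r | r ∈ He.extra}) r = 1 :=
  PresentedGroup.one_of_mem (Or.inr hr)

theorem gens_rels : ∀ w ∈ relList, evalW gens w = 1 := by
  intro w hw
  simp only [relList, List.mem_cons, List.not_mem_nil, or_false] at hw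
  rcases hw with rfl | rfl | rfl | rfl | rfl | rfl | rfl | rfl | rfl | rfl | rfl | rfl | rfl | rfl | rfl | rfl | rfl | rfl | rfl | rfl | rfl | rfl | rfl | rfl | rfl | rfl | rfl | rfl | rfl | rfl | rfl | rfl | rfl
  · rw [word0]; exact gens_cox He.Gen.a He.Gen.c
  · rw [word1]; exact gens_cox He.Gen.a He.Gen.d
  · rw [word2]; exact gens_cox He.Gen.a He.Gen.e
  · rw [word3]; exact gens_cox He.Gen.a He.Gen.f
  · rw [word4]; exact gens_cox He.Gen.a He.Gen.g
  · rw [word5]; exact gens_cox He.Gen.b He.Gen.d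
  · rw [word6]; exact gens_cox He.Gen.b He.Gen.e
  · rw [word7]; exact gens_cox He.Gen.b He.Gen.f
  · rw [word8]; exact gens_cox He.Gen.b He.Gen.g
  · rw [word9]; exact gens_cox He.Gen.c He.Gen.e
  · rw [word10]; exact gens_cox He.Gen.c He.Gen.f
  · rw [word11]; exact gens_cox He.Gen.c He.Gen.g
  · rw [word12]; exact gens_cox He.Gen.e He.Gen.f
  · rw [word13]; exact gens_cox He.Gen.e He.Gen.g
  · rw [word14 gens gens_sq]; refine Eq.trans ?_ (gens_extra (He.e * ((He.f * He.g) ^ 2)⁻¹) (by simp [He.extra])); simp only [_root_.map_mul, _root_.map_inv, _root_.map_pow]; rfl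
  · rw [word15]; exact gens_cox He.Gen.b He.Gen.c
  · rw [word16]; exact gens_cox He.Gen.d He.Gen.e
  · rw [word17]; exact gens_cox He.Gen.d He.Gen.f
  · rw [word18]; exact gens_cox He.Gen.d He.Gen.g
  · rw [word19]; exact gens_cox He.Gen.a He.Gen.b
  · rw [word20]; exact gens_cox He.Gen.f He.Gen.g
  · rw [word21 gens gens_sq]; refine Eq.trans ?_ (gens_extra (He.e * ((He.a * He.b * He.c) ^ 3)⁻¹) (by simp [He.extra])); simp only [_root_.map_mul, _root_.map_inv, _root_.map_pow]; rfl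
  · rw [word22 gens gens_sq]; refine Eq.trans ?_ (gens_extra (He.a * ((He.c * He.d) ^ 5)⁻¹) (by simp [He.extra])); simp only [_root_.map_mul, _root_.map_inv, _root_.map_pow]; rfl
  · rw [word23]; refine Eq.trans ?_ (gens_extra ((He.c * He.d * He.f * He.g) ^ 4) (by simp [He.extra])); simp only [_root_.map_mul, _root_.map_inv, _root_.map_pow]; rfl
  · rw [word24]; exact gens_cox He.Gen.c He.Gen.d
  · simp [evalW, gens_sq]
  · simp [evalW, gens_sq]
  · simp [evalW, gens_sq]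
  · simp [evalW, gens_sq]
  · simp [evalW, gens_sq]
  · simp [evalW, gens_sq]
  · simp [evalW, gens_sq]
  · rfl

end Cfsg.Agent.Screen.CosetEnum.PresHe
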