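import Cfsg.Agent.Screen.CosetEnum.OrderGlue
import Cfsg.Agent.Screen.CosetEnum.Orbit

/-!
# A base and strong lower bounds from orbits along a list of points
-/

set_option autoImplicit false

namespace Cfsg.Agent.Screen.CosetEnum

/-- Grow an orbit, insisting that each new member is new. -/
def Tab.grow (T : Tab) (kw : List (List ℕ)) : List (ℕ × ℕ) → ℕ → Option ℕ
  | [], s => some s
  | (g, p) :: l, s =>
    bif bit s p && Nat.blt p T.n && Nat.blt g kw.length then
      force (T.app (kw.getD g []) p) fun c =>
        bif bit s c then none else force (addBit s c) fun s' => T.grow kw l s'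
    else none

theorem Tab.grow_append {T : Tab} {kw : List (List ℕ)} : ∀ {l l' : List (ℕ × ℕ)} {s s' : ℕ},
    T.grow kw l s = some s' → T.grow kw (l ++ l') s = T.grow kw l' s'
  | [], _, _, _, h => by
    simp only [Tab.grow, Option.some.injEq] at h
    rw [h, List.nil_append]
  | (g, p) :: l, l', s, s', h => by
    rw [List.cons_append]
    simp only [Tab.grow, force_eq] at h ⊢
    cases hb : (bit s p && Nat.blt p T.n && Nat.blt g kw.length) with
    | false => simp [hb] at h
    | true =>
      simp only [hb, cond_true] at h ⊢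
      cases hc : bit s (T.app (kw.getD g []) p) with
      | true =>
        rw [hc, cond_true] at h
        exact absurd h (by simp only [reduceCtorEq, not_false_eq_true])
      | false =>
        simp only [hc, cond_false] at h ⊢
        exact Tab.grow_append h

/-- One point of a base: generators fixing the earlier points, the point, and a chain covering a part of its orbit. -/
structure Level where
  /-- the words -/
  kw : List (List ℕ)
  /-- the point -/
  pt : ℕ
  /-- the chain -/
  chain : List (ℕ × ℕ)

/-- The small checks on a list of levels; the chains are checked separately. -/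
def Tab.levelsOK (T : Tab) : List Level → List ℕ → Bool
  | [], _ => true
  | L :: Ls, prev =>
    (L.kw.all fun w => (w.all fun x => Nat.blt x T.ng) && prev.all fun q => Nat.beq (T.app w q) q) &&
      Nat.blt L.pt T.n && T.levelsOK Ls (L.pt :: prev)

/-- Elements of `K` fixing all points. -/
def fixPts {n : ℕ} (K : Subgroup (Equiv.Perm (Fin n))) : List ℕ → Subgroup (Equiv.Perm (Fin n))
  | [] => K
  | q :: qs =>
    if h : q < n then fixPts K qs ⊓ MulAction.stabilizer (Equiv.Perm (Fin n)) (⟨q, h⟩ : Fin n) else fixPts K qs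

theorem mem_fixPts {n : ℕ} {K : Subgroup (Equiv.Perm (Fin n))} {σ : Equiv.Perm (Fin n)} (hσ : σ ∈ K) :
    ∀ {qs : List ℕ}, (∀ q ∈ qs, ∀ h : q < n, σ ⟨q, h⟩ = ⟨q, h⟩) → σ ∈ fixPts K qs
  | [], _ => hσ
  | q :: qs, hq => by
    unfold fixPts
    split
    · exact ⟨mem_fixPts hσ fun r hr => hq r (List.mem_cons_of_mem _ hr),
        MulAction.mem_stabilizer_iff.2 (hq q List.mem_cons_self _)⟩
    · exact mem_fixPts hσ fun r hr => hq r (List.mem_cons_of_mem _ hr)

variable {T : Tab}

theorem Tab.Checked.grow_spec (hT : T.Checked) {kw : List (List ℕ)} (hkw : ∀ w ∈ kw, ∀ x ∈ w, x < T.ng)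
    (S : Subgroup (Equiv.Perm (Fin T.n))) (hS : ∀ w ∈ kw, evalW hT.perm w ∈ S) (p : Fin T.n) :
    ∀ (l : List (ℕ × ℕ)) (s s' : ℕ) (A : Finset (Fin T.n)), T.grow kw l s = some s' →
      (∀ c : ℕ, bit s c = true → ∃ h : c < T.n, (⟨c, h⟩ : Fin T.n) ∈ A) → (∀ c ∈ A, bit s (c : ℕ) = true) →
      (∀ c ∈ A, ∃ σ ∈ S, σ p = c) →
      ∃ B : Finset (Fin T.n), B.card = A.card + l.length ∧ ∀ c ∈ B, ∃ σ ∈ S, σ p = c := by
  intro l
  induction l with
  | nil => intro s s' A _ _ _ hA; exact ⟨A, by simp, hA⟩
  | cons a l ih =>
    obtain ⟨g, q⟩ := a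
    intro s s' A h hs hsA hA
    unfold Tab.grow at h
    simp only [force_eq] at h
    cases hb : (bit s q && Nat.blt q T.n && Nat.blt g kw.length) with
    | false => simp [hb] at h
    | true =>
      simp only [hb, cond_true] at h
      simp only [Bool.and_eq_true, Nat.blt_eq] at hb
      cases hc : bit s (T.app (kw.getD g []) q) with
      | true =>
        rw [hc, cond_true] at h
        exact absurd h (by simp only [reduceCtorEq, not_false_eq_true])
      | false =>
        simp only [hc, cond_false] at h
        obtain ⟨hq, hqA⟩ := hs q hb.1.1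
        obtain ⟨σ, hσ, hσq⟩ := hA _ hqA
        have hw : kw.getD g [] ∈ kw := by
          rw [List.getD_eq_getElem _ _ hb.2]
          exact List.getElem_mem _
        set c : Fin T.n := evalW hT.perm (kw.getD g []) ⟨q, hq⟩ with hcdef
        have hcv : (c : ℕ) = T.app (kw.getD g []) q := hT.app_eq _ (hkw _ hw) _
        have hnA : c ∉ A := fun hm => by
          have := hsA c hm
          rw [hcv, hc] at this
          exact Bool.noConfusion this
        obtain ⟨B, hB, hBS⟩ := ih _ s' (insert c A) h
          (fun d hd => by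
            rw [bit_addBit, Bool.or_eq_true, decide_eq_true_iff] at hd
            rcases hd with hd | hd
            · obtain ⟨h1, h2⟩ := hs d hd; exact ⟨h1, Finset.mem_insert_of_mem h2⟩
            · subst hd
              exact ⟨hcv ▸ c.isLt, by rw [show (⟨_, _⟩ : Fin T.n) = c from Fin.ext hcv.symm]; exact Finset.mem_insert_self _ _⟩)
          (fun d hd => by
            rw [bit_addBit, Bool.or_eq_true, decide_eq_true_iff]
            rcases Finset.mem_insert.1 hd with rfl | hd
            · exact Or.inr hcv.symm
            · exact Or.inl (hsA d hd))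
          (fun d hd => by
            rcases Finset.mem_insert.1 hd with rfl | hd
            · exact ⟨evalW hT.perm (kw.getD g []) * σ, mul_mem (hS _ hw) hσ, by rw [Equiv.Perm.mul_apply, hσq]⟩
            · exact hA d hd)
        exact ⟨B, by rw [hB, Finset.card_insert_of_notMem hnA, List.length_cons]; omega, hBS⟩

/-- The product of the orbit lengths bounds the order of a group containing all the words. -/
theorem Tab.Checked.card_base (hT : T.Checked) (K : Subgroup (Equiv.Perm (Fin T.n)))
    (hK : ∀ x < T.ng, hT.perm x ∈ K) :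
    ∀ (Ls : List Level) (prev : List ℕ), T.levelsOK Ls prev = true →
      (∀ L ∈ Ls, (T.grow L.kw L.chain (addBit 0 L.pt)).isSome = true) →
      (Ls.map fun L => L.chain.length + 1).prod * Nat.card (fixPts K ((Ls.map Level.pt).reverse ++ prev)) ≤
        Nat.card (fixPts K prev) := by
  intro Ls
  induction Ls with
  | nil => intro prev _ _; simp
  | cons L Ls ih =>
    intro prev hok hch
    simp only [Tab.levelsOK, Bool.and_eq_true, List.all_eq_true, Nat.blt_eq] at hok
    obtain ⟨⟨hkw, hpt⟩, hrest⟩ := hok
    have h2 := ih (L.pt :: prev) hrest fun M hM => hch M (List.mem_cons_of_mem _ hM)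
    rw [List.map_cons, List.prod_cons, List.map_cons, List.reverse_cons, List.append_assoc, List.singleton_append,
      Nat.mul_assoc]
    refine le_trans (Nat.mul_le_mul le_rfl h2) ?_
    set S := fixPts K prev with hS
    set p : Fin T.n := ⟨L.pt, hpt⟩
    have hmem : ∀ w ∈ L.kw, evalW hT.perm w ∈ S := by
      intro w hw
      have hwK : ∀ v : List ℕ, (∀ x ∈ v, x < T.ng) → evalW hT.perm v ∈ K := by
        intro v
        induction v with
        | nil => intro _; exact one_mem _
        | cons a v ihv =>
          intro hv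
          exact mul_mem (ihv fun x hx => hv x (List.mem_cons_of_mem _ hx)) (hK a (hv a List.mem_cons_self))
      refine mem_fixPts (hwK w (hkw w hw).1) fun q hq h => Fin.ext ?_
      rw [hT.app_eq w (hkw w hw).1]
      exact Nat.eq_of_beq_eq_true ((hkw w hw).2 q hq)
    obtain ⟨s', hs'⟩ := Option.isSome_iff_exists.1 (hch L List.mem_cons_self)
    obtain ⟨B, hB, hBS⟩ := hT.grow_spec (fun w hw => (hkw w hw).1) S hmem p L.chain _ s' {p} hs'
      (fun c hc => by
        rw [bit_addBit, bit_eq, Nat.zero_testBit, Bool.false_or, decide_eq_true_iff] at hc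
        subst hc
        exact ⟨hpt, Finset.mem_singleton_self _⟩)
      (fun c hc => by
        rw [Finset.mem_singleton] at hc
        subst hc
        rw [bit_addBit, decide_eq_true (show L.pt = ((p : Fin T.n) : ℕ) from rfl), Bool.or_true])
      (fun c hc => ⟨1, one_mem _, by rw [Finset.mem_singleton] at hc; subst hc; rfl⟩)
    choose σ hσS hσp using hBS
    have hsub : fixPts K (L.pt :: prev) = S ⊓ MulAction.stabilizer (Equiv.Perm (Fin T.n)) p := by
      rw [fixPts, dif_pos hpt]
    rw [hsub]
    let φ : ↥B × ↥(S ⊓ MulAction.stabilizer (Equiv.Perm (Fin T.n)) p) → S :=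
      fun z => ⟨σ z.1.1 z.1.2 * z.2.1, mul_mem (hσS _ _) z.2.2.1⟩
    have hφ : Function.Injective φ := by
      rintro ⟨⟨b, hb⟩, ⟨u, hu⟩⟩ ⟨⟨c, hc⟩, ⟨v, hv⟩⟩ h
      have h' : σ b hb * u = σ c hc * v := congrArg Subtype.val h
      have hup : u p = p := MulAction.mem_stabilizer_iff.1 hu.2
      have hvp : v p = p := MulAction.mem_stabilizer_iff.1 hv.2
      have hbc : b = c := by
        have := congrArg (fun τ : Equiv.Perm (Fin T.n) => τ p) h'
        simp only [Equiv.Perm.mul_apply] at this
        rwa [hup, hvp, hσp, hσp] at this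
      subst hbc
      exact Prod.ext rfl (Subtype.ext (mul_left_cancel h'))
    have h3 := Nat.card_le_card_of_injective φ hφ
    rw [Nat.card_prod, Nat.card_eq_finsetCard, hB, Finset.card_singleton] at h3
    exact le_trans (le_of_eq (by rw [Nat.add_comm])) h3

/-- A word fixes all base points. -/
def Tab.fixesBase (T : Tab) (pts : List ℕ) (w : List ℕ) : Bool :=
  pts.all fun q => Nat.beq (T.app w q) q

/-- If the bound is sharp, a word fixing all base points is trivial. -/
theorem Tab.Checked.eq_one_of_fixesBase (hT : T.Checked) {G : Type*} [Group G] [Finite G] {f : G →* Equiv.Perm (Fin T.n)}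
    (hinj : Function.Injective f) (gen : ℕ → G) (hf : ∀ x < T.ng, f (gen x) = hT.perm x) (Ls : List Level)
    (hok : T.levelsOK Ls [] = true) (hch : ∀ L ∈ Ls, (T.grow L.kw L.chain (addBit 0 L.pt)).isSome = true)
    (hcard : Nat.card G ≤ (Ls.map fun L => L.chain.length + 1).prod) {w : List ℕ}
    (hwl : w.all (fun x => Nat.blt x T.ng) = true) (hfix : T.fixesBase ((Ls.map Level.pt).reverse) w = true) :
    evalW gen w = 1 := by
  have hwl' : ∀ x ∈ w, x < T.ng := fun x hx => by simpa [Nat.blt_eq] using List.all_eq_true.1 hwl x hx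
  have hb := hT.card_base f.range (fun x hx => MonoidHom.mem_range.2 ⟨_, hf x hx⟩) Ls [] hok hch
  rw [List.append_nil] at hb
  have hr : Nat.card f.range = Nat.card G := Nat.card_congr (MonoidHom.ofInjective hinj).toEquiv.symm
  have hfp : Nat.card (fixPts f.range []) = Nat.card G := hr
  rw [hfp] at hb
  set F := fixPts f.range (Ls.map Level.pt).reverse with hF
  have hG : 0 < Nat.card G := Nat.card_pos
  have h1 : Nat.card F ≤ 1 := by
    by_contra hc
    push Not at hc
    nlinarith [Nat.mul_le_mul (le_refl (Ls.map fun L => L.chain.length + 1).prod) hc]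
  have hbot : F = ⊥ := Subgroup.card_le_one_iff_eq_bot F |>.1 h1
  have hfw : ∀ v : List ℕ, (∀ x ∈ v, x < T.ng) → f (evalW gen v) = evalW hT.perm v := by
    intro v
    induction v with
    | nil => intro _; simp [evalW]
    | cons a v ih =>
      intro hv
      rw [evalW, evalW, map_mul, ih (fun x hx => hv x (List.mem_cons_of_mem _ hx)), hf a (hv a List.mem_cons_self)]
  have hmem : f (evalW gen w) ∈ F := by
    rw [hF]
    refine mem_fixPts (MonoidHom.mem_range.2 ⟨evalW gen w, rfl⟩) fun q hq h => Fin.ext ?_
    rw [hfw w hwl', hT.app_eq w hwl']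
    exact Nat.eq_of_beq_eq_true (List.all_eq_true.1 hfix q hq)
  rw [hbot, Subgroup.mem_bot] at hmem
  exact hinj (hmem.trans (map_one f).symm)

end Cfsg.Agent.Screen.CosetEnum
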