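import Mathlib

/-!
# Checkable certificates for coset enumerations (involutory generators)

A certificate is a numbered list of facts "letter `x` carries node `u` to node `v`".  A fact either introduces a
new node, or follows from earlier facts and one relator by walking round the relator.
-/

set_option autoImplicit false

namespace Cfsg.Agent.Screen.CosetEnum

/-- A lookup tree for packed numbers. -/
inductive Tr where
  | leaf : ℕ → Tr
  | node : ℕ → Tr → Tr → Tr

/-- Lookup. -/
def Tr.get : Tr → ℕ → ℕ
  | .leaf v, _ => v
  | .node m l r, i => bif Nat.blt i m then l.get i else r.get i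

/-- Evaluate a number before going on (keeps kernel computations shallow). -/
def force {α : Type} (s : ℕ) (k : ℕ → α) : α :=
  match s with
  | 0 => k 0
  | n + 1 => k (n + 1)

theorem force_eq {α : Type} (s : ℕ) (k : ℕ → α) : force s k = k s := by cases s <;> rfl

/-- Thirty-two consecutive fields of a packed table with 768 fields in each leaf. -/
def group32 (T : Tr) (q : ℕ) : ℕ :=
  Nat.land (Nat.shiftRight (T.get (q / 24)) ((q % 24) * 640)) (2 ^ 640 - 1)

/-- The 20 bit field number `i` of a packed table. -/
def field (T : Tr) (i : ℕ) : ℕ :=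
  force i fun i => force (i / 32) fun q =>
    Nat.land (Nat.shiftRight (group32 T q) ((i % 32) * 20)) 1048575

/-- The data of a certificate. -/
structure Cert where
  /-- number of generators; this number is also the identity letter -/
  ng : ℕ
  /-- number of facts -/
  nf : ℕ
  /-- endpoints and letters, three fields for each fact -/
  facts : Tr
  /-- justifications, one leaf for each 24 facts -/
  steps : Tr
  /-- words acting trivially -/
  rels : List (List ℕ)
  /-- words fixing the base node -/
  subs : List (List ℕ)

/-- The letter of fact `r`. -/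
def Cert.fx (C : Cert) (r : ℕ) : ℕ := field C.facts (3 * r + 1)
/-- The first node of fact `r`. -/
def Cert.fu (C : Cert) (r : ℕ) : ℕ := field C.facts (3 * r)
/-- The second node of fact `r`. -/
def Cert.fv (C : Cert) (r : ℕ) : ℕ := field C.facts (3 * r + 2)

/-- Pop the next field of a stream. -/
def pop (s : ℕ) : ℕ := Nat.land s 1048575
/-- The rest of a stream. -/
def rest (s : ℕ) : ℕ := Nat.shiftRight s 20

/-- Follow `k` facts of index below `i`, reading letters from `w`. -/
def walk (C : Cert) (i : ℕ) : ℕ → ℕ → List ℕ → ℕ → Option (ℕ × List ℕ × ℕ)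
  | 0, cur, w, s => some (cur, w, s)
  | k + 1, cur, w, s => force (pop s) fun r =>
    bif Nat.blt r i then
      force (C.fx r) fun x =>
      bif Nat.beq x C.ng then
        bif Nat.beq (C.fu r) cur then force (C.fv r) fun c => force (rest s) fun s' => walk C i k c w s'
        else bif Nat.beq (C.fv r) cur then force (C.fu r) fun c => force (rest s) fun s' => walk C i k c w s'
        else none
      else
        match w with
        | [] => none
        | a :: w' =>
          bif Nat.beq x a then
            bif Nat.beq (C.fu r) cur then force (C.fv r) fun c => force (rest s) fun s' => walk C i k c w' s'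
            else bif Nat.beq (C.fv r) cur then force (C.fu r) fun c => force (rest s) fun s' => walk C i k c w' s'
            else none
          else none
    else none

/-- The word of a rule number (rule 0 is the introduction of a node). -/
def Cert.word (C : Cert) (r : ℕ) : List ℕ :=
  bif Nat.blt r C.rels.length then C.rels.getD r [] else C.subs.getD (r - C.rels.length) []

/-- Consume the middle letter. -/
def mid (C : Cert) (x : ℕ) (w : List ℕ) : Option (List ℕ) :=
  bif Nat.beq x C.ng then some w else
    match w with
    | [] => none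
    | a :: w' => bif Nat.beq x a then some w' else none

/-- Check one justification; on success return the remaining stream. -/
def step (C : Cert) (i s : ℕ) : Option ℕ :=
  bif Nat.beq (pop s) 0 then
    bif Nat.ble (C.fu i) i && Nat.beq (C.fv i) (i + 1) then some (rest s) else none
  else
    bif Nat.ble (C.fu i) i && Nat.ble (C.fv i) i &&
        (Nat.blt (pop s - 1) C.rels.length || Nat.beq (pop (rest s)) 0) then
      match walk C i (pop (rest (rest s))) (pop (rest s)) (C.word (pop s - 1))
          (rest (rest (rest (rest s)))) with
      | none => none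
      | some (u, w, t) =>
        bif Nat.beq u (C.fu i) then
          match mid C (C.fx i) w with
          | none => none
          | some w' =>
            match walk C i (pop (rest (rest (rest s)))) (pop (rest s)) w'.reverse t with
            | some (v, [], t') => bif Nat.beq v (C.fv i) then some t' else none
            | _ => none
        else none
    else none

/-- Check `k` consecutive facts from number `i`, as far as they exist. -/
def blockGo (C : Cert) : ℕ → ℕ → ℕ → Bool
  | 0, _, _ => true
  | k + 1, i, s =>
    bif Nat.blt i C.nf then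
      match step C i s with
      | none => false
      | some t => force (i + 1) fun j => force t fun u => blockGo C k j u
    else true

/-- Check block number `b`. -/
def block (C : Cert) (b : ℕ) : Bool := blockGo C 24 (24 * b) (C.steps.get b)

/-- Check the blocks `b, …, b + k - 1`. -/
def blocks (C : Cert) : ℕ → ℕ → Bool
  | 0, _ => true
  | k + 1, b => block C b && blocks C k (b + 1)

theorem blocks_spec (C : Cert) : ∀ k b, blocks C k b = true → ∀ c, b ≤ c → c < b + k → block C c = true := by
  intro k
  induction k with
  | zero => intro b _ c h1 h2; omega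
  | succ k ih =>
    intro b h c h1 h2
    simp only [blocks, Bool.and_eq_true] at h
    rcases Nat.lt_or_ge b c with h3 | h3
    · exact ih (b + 1) h.2 c h3 (by omega)
    · obtain rfl : b = c := by omega
      exact h.1

section Sound

variable {G Q : Type*} [Group G] [MulAction G Q]

/-- The element of a word, first letter applied first. -/
def evalW (gen : ℕ → G) : List ℕ → G
  | [] => 1
  | x :: w => evalW gen w * gen x

theorem evalW_append (gen : ℕ → G) (v w : List ℕ) : evalW gen (v ++ w) = evalW gen w * evalW gen v := by
  induction v with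
  | nil => simp [evalW]
  | cons a v ih => simp [evalW, ih, mul_assoc]

/-- Repeat a word. -/
def pw : ℕ → List ℕ → List ℕ
  | 0, _ => []
  | m + 1, w => pw m w ++ w

theorem evalW_pw (gen : ℕ → G) (m : ℕ) (w : List ℕ) : evalW gen (pw m w) = evalW gen w ^ m := by
  induction m with
  | zero => simp [pw, evalW]
  | succ m ih => simp [pw, evalW_append, ih, pow_succ']

theorem evalW_reverse {gen : ℕ → G} (hinv : ∀ x, gen x * gen x = 1) :
    ∀ w : List ℕ, evalW gen w.reverse = (evalW gen w)⁻¹ := by
  intro w
  induction w with
  | nil => simp [evalW]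
  | cons a w ih =>
    rw [List.reverse_cons, evalW_append, ih, evalW, evalW, evalW, one_mul, mul_inv_rev,
      inv_eq_of_mul_eq_one_right (hinv a)]

/-- Fact `r` holds in the valuation `val`. -/
def Holds (C : Cert) (gen : ℕ → G) (val : ℕ → Q) (r : ℕ) : Prop :=
  gen (C.fx r) • val (C.fu r) = val (C.fv r)

variable {C : Cert} {gen : ℕ → G} {val : ℕ → Q} {i : ℕ}

theorem follow (hinv : ∀ x, gen x * gen x = 1) {r cur : ℕ} (h : Holds C gen val r) :
    (C.fu r = cur → gen (C.fx r) • val cur = val (C.fv r)) ∧
      (C.fv r = cur → gen (C.fx r) • val cur = val (C.fu r)) := by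
  refine ⟨fun e => e ▸ h, fun e => ?_⟩
  rw [← e, ← h, ← mul_smul, hinv, one_smul]

theorem walk_sound (hinv : ∀ x, gen x * gen x = 1) (hid : gen C.ng = 1) (hh : ∀ r < i, Holds C gen val r) :
    ∀ k cur w s cur' w' s', walk C i k cur w s = some (cur', w', s') →
      ∃ c, w = c ++ w' ∧ evalW gen c • val cur = val cur' := by
  intro k
  induction k with
  | zero =>
    intro cur w s cur' w' s' h
    simp only [walk, Option.some.injEq, Prod.mk.injEq] at h
    obtain ⟨rfl, rfl, -⟩ := h
    exact ⟨[], rfl, by simp [evalW]⟩
  | succ k ih =>
    intro cur w s cur' w' s' h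
    unfold walk at h
    simp only [force_eq] at h
    cases hb : Nat.blt (pop s) i with
    | false => simp [hb] at h
    | true =>
    have hlt : pop s < i := by simpa [Nat.blt_eq] using hb
    obtain ⟨f1, f2⟩ := follow hinv (cur := cur) (hh _ hlt)
    simp only [hb, cond_true] at h
    cases hx : Nat.beq (C.fx (pop s)) C.ng with
    | true =>
      have hx' : C.fx (pop s) = C.ng := Nat.eq_of_beq_eq_true hx
      simp only [hx, cond_true] at h
      rw [hx', hid, one_smul] at f1 f2
      cases hu : Nat.beq (C.fu (pop s)) cur with
      | true =>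
        simp only [hu, cond_true] at h
        rw [f1 (Nat.eq_of_beq_eq_true hu)]
        exact ih _ _ _ _ _ _ h
      | false =>
      simp only [hu, cond_false] at h
      cases hv : Nat.beq (C.fv (pop s)) cur with
      | true =>
        simp only [hv, cond_true] at h
        rw [f2 (Nat.eq_of_beq_eq_true hv)]
        exact ih _ _ _ _ _ _ h
      | false => simp [hv] at h
    | false =>
    simp only [hx, cond_false] at h
    cases w with
    | nil => simp at h
    | cons a w1 =>
    cases ha : Nat.beq (C.fx (pop s)) a with
    | false => simp [ha] at h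
    | true =>
    have ha' : C.fx (pop s) = a := Nat.eq_of_beq_eq_true ha
    simp only [ha, cond_true] at h
    cases hu : Nat.beq (C.fu (pop s)) cur with
    | true =>
      simp only [hu, cond_true] at h
      obtain ⟨c, rfl, hc⟩ := ih _ _ _ _ _ _ h
      exact ⟨a :: c, rfl, by rw [evalW, mul_smul, ← ha', f1 (Nat.eq_of_beq_eq_true hu), hc]⟩
    | false =>
    simp only [hu, cond_false] at h
    cases hv : Nat.beq (C.fv (pop s)) cur with
    | true =>
      simp only [hv, cond_true] at h
      obtain ⟨c, rfl, hc⟩ := ih _ _ _ _ _ _ h
      exact ⟨a :: c, rfl, by rw [evalW, mul_smul, ← ha', f2 (Nat.eq_of_beq_eq_true hv), hc]⟩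
    | false => simp [hv] at h

theorem mid_sound (hid : gen C.ng = 1) {x : ℕ} {w w' : List ℕ} (h : mid C x w = some w') :
    evalW gen w = evalW gen w' * gen x := by
  unfold mid at h
  cases hx : Nat.beq x C.ng with
  | true =>
    simp only [hx, cond_true, Option.some.injEq] at h
    subst h
    rw [Nat.eq_of_beq_eq_true hx, hid, mul_one]
  | false =>
    simp only [hx, cond_false] at h
    cases w with
    | nil => simp at h
    | cons a w1 =>
      cases ha : Nat.beq x a with
      | false => simp [ha] at h
      | true =>
        simp only [ha, cond_true, Option.some.injEq] at h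
        subst h
        rw [evalW, Nat.eq_of_beq_eq_true ha]

variable (C gen) in
/-- What a checked step gives. -/
def StepOK (q₀ : Q) (i : ℕ) : Prop :=
  (C.fu i ≤ i ∧ C.fv i = i + 1) ∨
    (C.fu i ≤ i ∧ C.fv i ≤ i ∧ ∀ val : ℕ → Q, val 0 = q₀ → (∀ r < i, Holds C gen val r) → Holds C gen val i)

theorem step_sound {q₀ : Q} (hinv : ∀ x, gen x * gen x = 1) (hid : gen C.ng = 1)
    (hrels : ∀ w ∈ C.rels, ∀ q : Q, evalW gen w • q = q) (hsubs : ∀ w ∈ C.subs, evalW gen w • q₀ = q₀)
    {s t : ℕ} (h : step C i s = some t) : StepOK C gen q₀ i := by
  rw [step] at h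
  cases h0 : Nat.beq (pop s) 0 with
  | true =>
    simp only [h0, cond_true] at h
    cases hc : (Nat.ble (C.fu i) i && Nat.beq (C.fv i) (i + 1)) with
    | false => simp [hc] at h
    | true =>
      rw [Bool.and_eq_true] at hc
      exact Or.inl ⟨Nat.le_of_ble_eq_true hc.1, Nat.eq_of_beq_eq_true hc.2⟩
  | false =>
  simp only [h0, cond_false] at h
  cases hc : (Nat.ble (C.fu i) i && Nat.ble (C.fv i) i &&
      (Nat.blt (pop s - 1) C.rels.length || Nat.beq (pop (rest s)) 0)) with
  | false => simp [hc] at h
  | true =>
  simp only [hc, cond_true] at h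
  simp only [Bool.and_eq_true, Bool.or_eq_true] at hc
  refine Or.inr ⟨Nat.le_of_ble_eq_true hc.1.1, Nat.le_of_ble_eq_true hc.1.2, fun val hv0 hh => ?_⟩
  have hfix : evalW gen (C.word (pop s - 1)) • val (pop (rest s)) = val (pop (rest s)) := by
    rw [Cert.word]
    cases hl : Nat.blt (pop s - 1) C.rels.length with
    | true =>
      have hl' : pop s - 1 < C.rels.length := by simpa [Nat.blt_eq] using hl
      rw [cond_true, List.getD_eq_getElem _ _ hl']
      exact hrels _ (List.getElem_mem hl') _
    | false =>
      rw [cond_false]
      have hs0 : pop (rest s) = 0 := by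
        rcases hc.2 with h' | h'
        · rw [hl] at h'; exact absurd h' (by simp)
        · exact Nat.eq_of_beq_eq_true h'
      rw [hs0, hv0]
      rcases Nat.lt_or_ge (pop s - 1 - C.rels.length) C.subs.length with hl' | hl'
      · rw [List.getD_eq_getElem _ _ hl']
        exact hsubs _ (List.getElem_mem hl')
      · rw [List.getD_eq_default _ _ hl']
        simp [evalW]
  split at h
  · simp at h
  rename_i u w t1 hw1
  obtain ⟨c1, hc1, hu1⟩ := walk_sound hinv hid hh _ _ _ _ _ _ _ hw1
  cases hu : Nat.beq u (C.fu i) with
  | false => simp [hu] at h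
  | true =>
  simp only [hu, cond_true] at h
  obtain rfl := Nat.eq_of_beq_eq_true hu
  split at h
  · simp at h
  rename_i w' hm
  split at h
  · rename_i v t2 hw2
    cases hv : Nat.beq v (C.fv i) with
    | false => simp [hv] at h
    | true =>
    obtain rfl := Nat.eq_of_beq_eq_true hv
    obtain ⟨c2, hc2, hv2⟩ := walk_sound hinv hid hh _ _ _ _ _ _ _ hw2
    rw [List.append_nil] at hc2
    subst hc2
    rw [hc1, evalW_append, mid_sound hid hm, mul_smul, hu1, mul_smul, ← eq_inv_smul_iff,
      ← evalW_reverse hinv, hv2] at hfix
    exact hfix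
  · simp at h

theorem blockGo_sound {q₀ : Q} (hinv : ∀ x, gen x * gen x = 1) (hid : gen C.ng = 1)
    (hrels : ∀ w ∈ C.rels, ∀ q : Q, evalW gen w • q = q) (hsubs : ∀ w ∈ C.subs, evalW gen w • q₀ = q₀) :
    ∀ k i s, blockGo C k i s = true → ∀ j, i ≤ j → j < i + k → j < C.nf → StepOK C gen q₀ j := by
  intro k
  induction k with
  | zero => intro i s _ j h1 h2; omega
  | succ k ih =>
    intro i s h j h1 h2 h3
    rw [blockGo] at h
    simp only [force_eq] at h
    have hb : Nat.blt i C.nf = true := by simp [Nat.blt_eq]; omega
    simp only [hb, cond_true] at h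
    split at h
    · simp at h
    rename_i t ht
    rcases Nat.lt_or_ge i j with h4 | h4
    · exact ih _ _ h j h4 (by omega) h3
    · obtain rfl : i = j := by omega
      exact step_sound hinv hid hrels hsubs ht

/-- A checked certificate yields a valuation in which every fact holds. -/
theorem exists_val {q₀ : Q} (hinv : ∀ x, gen x * gen x = 1) (hid : gen C.ng = 1)
    (hrels : ∀ w ∈ C.rels, ∀ q : Q, evalW gen w • q = q) (hsubs : ∀ w ∈ C.subs, evalW gen w • q₀ = q₀)
    (hblk : ∀ b, 24 * b < C.nf → block C b = true) :
    ∃ val : ℕ → Q, val 0 = q₀ ∧ ∀ r < C.nf, Holds C gen val r := by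
  have hok : ∀ j < C.nf, StepOK C gen q₀ j := fun j hj =>
    blockGo_sound hinv hid hrels hsubs 24 (24 * (j / 24)) _ (hblk _ (by omega)) j (by omega) (by omega) hj
  have hb : ∀ r < C.nf, C.fu r ≤ r + 1 ∧ C.fv r ≤ r + 1 := fun r hr => by
    rcases hok r hr with ⟨a, b⟩ | ⟨a, b, -⟩ <;> omega
  suffices h : ∀ k, k ≤ C.nf → ∃ val : ℕ → Q, val 0 = q₀ ∧ ∀ r < k, Holds C gen val r from h _ le_rfl
  intro k
  induction k with
  | zero => exact fun _ => ⟨fun _ => q₀, rfl, fun r hr => absurd hr (Nat.not_lt_zero r)⟩
  | succ k ih =>
    intro hk
    obtain ⟨val, h0, hh⟩ := ih (by omega)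
    rcases hok k (by omega) with ⟨hu, hv⟩ | ⟨-, -, hst⟩
    · refine ⟨Function.update val (k + 1) (gen (C.fx k) • val (C.fu k)), ?_, fun r hr => ?_⟩
      · rw [Function.update_of_ne (by omega)]; exact h0
      rcases Nat.lt_or_ge r k with hr' | hr'
      · have := hb r (by omega)
        rw [Holds, Function.update_of_ne (by omega), Function.update_of_ne (by omega)]
        exact hh r hr'
      · obtain rfl : r = k := by omega
        rw [Holds, Function.update_of_ne (by omega), hv, Function.update_self]
    · refine ⟨val, h0, fun r hr => ?_⟩
      rcases Nat.lt_or_ge r k with hr' | hr'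
      · exact hh r hr'
      · obtain rfl : r = k := by omega
        exact hst val h0 hh

end Sound

end Cfsg.Agent.Screen.CosetEnum
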