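import Cfsg.Agent.Screen.CosetEnum.Table

/-!
# Orders from coset tables: upper bounds from certificates, lower bounds from permutation images
-/

set_option autoImplicit false

namespace Cfsg.Agent.Screen.CosetEnum

variable {T : Tab}

/-- A checked table bounds the order of a generated subgroup. -/
theorem Tab.Checked.card_le {G : Type*} [Group G] (hT : T.Checked) (gen : ℕ → G) (hgen : ∀ x, gen x * gen x = 1)
    (hid : gen T.ng = 1) (hrels : ∀ w ∈ T.rels, evalW gen w = 1) (K H : Subgroup G)
    (hK : K = Subgroup.closure {g | ∃ x < T.ng, g = gen x})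
    (hH : H = Subgroup.closure {g | ∃ w ∈ T.subs, g = evalW gen w}) (hfin : Finite H) :
    Finite K ∧ Nat.card K ≤ T.n * Nat.card H := by
  haveI := hfin
  obtain ⟨val, hv0, hval⟩ := exists_val (C := T.toCert) (Q := G ⧸ H) (q₀ := QuotientGroup.mk 1)
    hgen hid (fun w hw q => by rw [hrels w hw, one_smul])
    (fun w hw => by
      rw [MulAction.Quotient.smul_mk, smul_eq_mul, mul_one, QuotientGroup.eq, mul_one]
      exact inv_mem (hH ▸ Subgroup.subset_closure ⟨w, hw, rfl⟩))
    hT.facts
  set t : Set (G ⧸ H) := Set.range fun c : Fin T.n => val (T.nd c) with ht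
  have h1 : (QuotientGroup.mk 1 : G ⧸ H) ∈ t := ⟨⟨0, hT.pos⟩, by simp only; rw [hT.nd_zero, hv0]⟩
  have hfint : t.Finite := Set.finite_range _
  have hinv : ∀ g ∈ K, ∀ q ∈ t, g • q ∈ t := by
    intro g hg
    rw [hK] at hg
    induction hg using Subgroup.closure_induction with
    | mem y hy =>
      obtain ⟨x, hx, rfl⟩ := hy
      rintro _ ⟨c, rfl⟩
      obtain ⟨hlt, -, hw, hfx, hends⟩ := hT.entry c.isLt hx
      have h := hval _ hw
      rw [Holds, hfx] at h
      refine ⟨⟨_, hlt⟩, ?_⟩
      rcases hends with ⟨a, b⟩ | ⟨a, b⟩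
      · rw [a, b] at h; exact h.symm
      · rw [a, b] at h
        simp only
        rw [← h, ← mul_smul, hgen, one_smul]
    | one => exact fun q hq => by rw [one_smul]; exact hq
    | mul a b _ _ ha hb => exact fun q hq => by rw [mul_smul]; exact ha _ (hb q hq)
    | inv a _ ha =>
      intro q hq
      haveI := hfint.to_subtype
      let σ : t → t := fun u => ⟨a • u.1, ha u.1 u.2⟩
      have hσ : Function.Injective σ := fun u v huv =>
        Subtype.ext (smul_left_cancel a (congrArg Subtype.val huv))
      obtain ⟨u, hu⟩ := (Finite.injective_iff_surjective.1 hσ) ⟨q, hq⟩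
      rw [← show a • u.1 = q from congrArg Subtype.val hu, inv_smul_smul]
      exact u.2
  have hsub : (K : Set G) ⊆ QuotientGroup.mk ⁻¹' t := fun g hg => by
    have := hinv g hg _ h1
    rwa [MulAction.Quotient.smul_mk, smul_eq_mul, mul_one] at this
  haveI := hfint.to_subtype
  haveI : Finite ↥(QuotientGroup.mk ⁻¹' t : Set G) :=
    Finite.of_equiv _ (QuotientGroup.preimageMkEquivSubgroupProdSet H t).symm
  have hK' : Finite K :=
    Finite.of_injective (fun g : K => (⟨g.1, hsub g.2⟩ : ↥(QuotientGroup.mk ⁻¹' t : Set G)))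
      (fun a b hab => Subtype.ext (congrArg Subtype.val hab :))
  refine ⟨hK', ?_⟩
  calc Nat.card K ≤ Nat.card ↥(QuotientGroup.mk ⁻¹' t : Set G) :=
        Nat.card_le_card_of_injective (fun g : K => (⟨g.1, hsub g.2⟩ : ↥(QuotientGroup.mk ⁻¹' t : Set G)))
          (fun a b hab => Subtype.ext (congrArg Subtype.val hab :))
    _ = Nat.card H * Nat.card t := by
        rw [Nat.card_congr (QuotientGroup.preimageMkEquivSubgroupProdSet H t), Nat.card_prod]
    _ ≤ Nat.card H * T.n := by
        refine Nat.mul_le_mul le_rfl ?_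
        rw [Nat.card_coe_set_eq]
        simpa using Finite.card_range_le (fun c : Fin T.n => val (T.nd c))
    _ = T.n * Nat.card H := Nat.mul_comm _ _

/-- A word in given words. -/
def joinWords (kw : List (List ℕ)) : List ℕ → List ℕ
  | [] => []
  | g :: l => kw.getD g [] ++ joinWords kw l

/-- Apply a word in given words. -/
def Tab.appI (T : Tab) (kw : List (List ℕ)) : List ℕ → ℕ → ℕ
  | [], c => c
  | g :: l, c => force (T.app (kw.getD g []) c) fun d => T.appI kw l d

/-- Code of the images of the points. -/
def Tab.code (T : Tab) (kw : List (List ℕ)) (l : List ℕ) : List ℕ → ℕ → ℕ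
  | [], acc => acc
  | p :: ps, acc => force (acc * T.n + T.appI kw l p) fun a => T.code kw l ps a

/-- Decode a word packed in digits of base 64. -/
def decode : ℕ → ℕ → List ℕ
  | 0, _ => []
  | k + 1, s => bif Nat.beq s 0 then [] else force (s / 64) fun t => (s % 64 - 1) :: decode k t

/-- Coset representatives with increasing codes. -/
def Tab.increasing (T : Tab) (kw : List (List ℕ)) (pts : List ℕ) : List ℕ → ℕ → Bool
  | [], _ => true
  | r :: rs, low => force (T.code kw (decode 300 r) pts 0) fun c =>
      Nat.ble low c && force (c + 1) fun l => T.increasing kw pts rs l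

/-- One level of a lower bound: the words `hw` (in `kw`) fix `pts`, the representatives move them differently. -/
def Tab.levelOK (T : Tab) (kw : List (List ℕ)) (hw : List (List ℕ)) (pts : List ℕ) (reps : List ℕ) : Bool :=
  (kw.all fun w => w.all fun x => Nat.blt x T.ng) && (pts.all fun p => Nat.blt p T.n) &&
    (hw.all fun l => pts.all fun p => Nat.beq (T.appI kw l p) p) && T.increasing kw pts reps 0

/-- The subgroup generated by words. -/
def wclosure {G : Type*} [Group G] (gen : ℕ → G) (kw : List (List ℕ)) : Subgroup G :=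
  Subgroup.closure {g | ∃ w ∈ kw, g = evalW gen w}

theorem increasing_spec {kw : List (List ℕ)} {pts : List ℕ} : ∀ {reps : List ℕ} {low : ℕ},
    T.increasing kw pts reps low = true → (∀ r ∈ reps, low ≤ T.code kw (decode 300 r) pts 0) ∧
      (reps.map fun r => T.code kw (decode 300 r) pts 0).Nodup
  | [], _, _ => ⟨by simp, by simp⟩
  | r :: rs, low, h => by
    simp only [Tab.increasing, force_eq, Bool.and_eq_true] at h
    obtain ⟨h1, h2⟩ := increasing_spec h.2
    have hle := Nat.le_of_ble_eq_true h.1
    refine ⟨fun s hs => ?_, ?_⟩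
    · rcases List.mem_cons.1 hs with rfl | hs
      · exact hle
      · have := h1 s hs; omega
    · rw [List.map_cons, List.nodup_cons]
      refine ⟨fun hm => ?_, h2⟩
      obtain ⟨s, hs, he⟩ := List.mem_map.1 hm
      have := h1 s hs
      omega

/-- The lower bound of one level. -/
theorem Tab.Checked.card_ge (hT : T.Checked) (kw hw : List (List ℕ)) (pts reps : List ℕ)
    (h : T.levelOK kw hw pts reps = true) :
    reps.length * Nat.card (wclosure hT.perm (hw.map (joinWords kw))) ≤ Nat.card (wclosure hT.perm kw) := by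
  simp only [Tab.levelOK, Bool.and_eq_true, List.all_eq_true, Nat.blt_eq] at h
  obtain ⟨⟨⟨hkl, hpl⟩, hfx⟩, hinc⟩ := h
  have hgetD : ∀ g, ∀ x ∈ kw.getD g [], x < T.ng := by
    intro g x hx
    rcases Nat.lt_or_ge g kw.length with hg | hg
    · rw [List.getD_eq_getElem _ _ hg] at hx
      exact hkl _ (List.getElem_mem hg) x hx
    · rw [List.getD_eq_default _ _ hg] at hx
      simp at hx
  have happ : ∀ (l : List ℕ) (c : Fin T.n),
      ((evalW hT.perm (joinWords kw l) c : Fin T.n) : ℕ) = T.appI kw l c := by
    intro l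
    induction l with
    | nil => intro c; simp [joinWords, evalW, Tab.appI]
    | cons g l ih =>
      intro c
      rw [joinWords, evalW_append, Equiv.Perm.mul_apply, ih, hT.app_eq _ (hgetD g), Tab.appI, force_eq]
  have hmem : ∀ l : List ℕ, evalW hT.perm (joinWords kw l) ∈ wclosure hT.perm kw := by
    intro l
    induction l with
    | nil => simp [joinWords, evalW]
    | cons g l ih =>
      rw [joinWords, evalW_append]
      refine mul_mem ih ?_
      rcases Nat.lt_or_ge g kw.length with hg | hg
      · rw [List.getD_eq_getElem _ _ hg]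
        exact Subgroup.subset_closure ⟨_, List.getElem_mem hg, rfl⟩
      · rw [List.getD_eq_default _ _ hg]
        simp [evalW]
  set H := wclosure hT.perm (hw.map (joinWords kw)) with hH
  have hHK : H ≤ wclosure hT.perm kw := by
    rw [hH, wclosure, Subgroup.closure_le]
    rintro _ ⟨w, hw', rfl⟩
    obtain ⟨l, -, rfl⟩ := List.mem_map.1 hw'
    exact hmem l
  have hfix : ∀ σ ∈ H, ∀ p (hp : p ∈ pts), σ ⟨p, hpl p hp⟩ = ⟨p, hpl p hp⟩ := by
    intro σ hσ
    rw [hH, wclosure] at hσ
    induction hσ using Subgroup.closure_induction with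
    | mem y hy =>
      obtain ⟨w, hw', rfl⟩ := hy
      obtain ⟨l, hl, rfl⟩ := List.mem_map.1 hw'
      intro p hp
      exact Fin.ext (by rw [happ]; exact Nat.eq_of_beq_eq_true (hfx l hl p hp))
    | one => intro p hp; rfl
    | mul a b _ _ ha hb => intro p hp; rw [Equiv.Perm.mul_apply, hb p hp, ha p hp]
    | inv a _ ha => intro p hp; rw [Equiv.Perm.inv_eq_iff_eq, ha p hp]
  obtain ⟨-, hnd⟩ := increasing_spec hinc
  set rep : Fin reps.length → List ℕ := fun i => decode 300 reps[i] with hrep
  let φ : Fin reps.length × H → wclosure hT.perm kw := fun z =>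
    ⟨evalW hT.perm (joinWords kw (rep z.1)) * z.2.1, mul_mem (hmem _) (hHK z.2.2)⟩
  have hcode : ∀ (l l' : List ℕ) (ps : List ℕ), (∀ p ∈ ps, T.appI kw l p = T.appI kw l' p) → ∀ acc,
      T.code kw l ps acc = T.code kw l' ps acc := by
    intro l l' ps
    induction ps with
    | nil => intro _ acc; rfl
    | cons p ps ih =>
      intro he acc
      rw [Tab.code, Tab.code, force_eq, force_eq, he p List.mem_cons_self,
        ih (fun q hq => he q (List.mem_cons_of_mem _ hq))]
  have hφ : Function.Injective φ := by
    rintro ⟨i, a⟩ ⟨j, b⟩ hab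
    have hab' : evalW hT.perm (joinWords kw (rep i)) * a.1 = evalW hT.perm (joinWords kw (rep j)) * b.1 :=
      congrArg Subtype.val hab
    have heq : T.code kw (rep i) pts 0 = T.code kw (rep j) pts 0 := by
      refine hcode _ _ _ (fun p hp => ?_) 0
      have := congrArg (fun σ : Equiv.Perm (Fin T.n) => ((σ ⟨p, hpl p hp⟩ : Fin T.n) : ℕ)) hab'
      simp only [Equiv.Perm.mul_apply] at this
      rw [hfix _ a.2 p hp, hfix _ b.2 p hp, happ, happ] at this
      exact this
    have hij : i = j := by
      have h2 := hnd.getElem_inj_iff (i := i.1) (j := j.1) (hi := by simp) (hj := by simp)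
      exact Fin.ext (h2.1 (by simpa [hrep] using heq))
    subst hij
    rw [mul_right_inj] at hab'
    exact Prod.ext rfl (Subtype.ext hab')
  calc reps.length * Nat.card H = Nat.card (Fin reps.length × H) := by rw [Nat.card_prod, Nat.card_fin]
    _ ≤ _ := Nat.card_le_card_of_injective φ hφ

end Cfsg.Agent.Screen.CosetEnum
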