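import Cfsg.Agent.Screen.CosetEnum.Order
import Cfsg.Agent.Screen.CosetEnum.Orbit

/-!
# Simplicity from a primitive action and the normal closure of one element
-/

set_option autoImplicit false

namespace Cfsg.Agent.Screen.CosetEnum

/-- Every union of some of the sets, together with bit `0`. -/
def unions : List (ℕ × ℕ) → List ℕ
  | [] => [1]
  | (_, S) :: l => unions l ++ (unions l).map (Nat.lor S)

/-- The only sizes dividing `n` are `1` and `n`; the sets cover everything but `0`. -/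
def Tab.primOK (T : Tab) (orbs : List (ℕ × ℕ)) : Bool :=
  ((unions orbs).all fun U => Nat.beq U 1 || Nat.beq (countAll U T.n ((T.n + 255) / 256)) T.n ||
    !(Nat.beq (T.n % countAll U T.n ((T.n + 255) / 256)) 0)) &&
  Nat.beq (countAll (orbs.foldr (fun o U => Nat.lor o.2 U) 1) T.n ((T.n + 255) / 256)) T.n

theorem bit_lor (A B c : ℕ) : bit (Nat.lor A B) c = (bit A c || bit B c) := by
  rw [bit_eq, bit_eq, bit_eq]
  exact Nat.testBit_or A B c

theorem bit_one (c : ℕ) : bit 1 c = decide (c = 0) := by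
  rw [bit_eq, show (1 : ℕ) = 2 ^ 0 from rfl, Nat.testBit_two_pow]
  simp [eq_comm]

theorem bit_foldr : ∀ (orbs : List (ℕ × ℕ)) (c : ℕ),
    bit (orbs.foldr (fun o U => Nat.lor o.2 U) 1) c = true ↔ c = 0 ∨ ∃ o ∈ orbs, bit o.2 c = true
  | [], c => by simp [bit_one]
  | o :: l, c => by
    rw [List.foldr_cons, bit_lor, Bool.or_eq_true, bit_foldr l]
    simp only [List.mem_cons, exists_eq_or_imp]
    tauto

theorem exists_union (P : ℕ → Prop) : ∀ orbs : List (ℕ × ℕ),
    ∃ U ∈ unions orbs, ∀ c, bit U c = true ↔ c = 0 ∨ ∃ o ∈ orbs, P o.1 ∧ bit o.2 c = true := by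
  intro orbs
  induction orbs with
  | nil => exact ⟨1, by simp [unions], fun c => by simp [bit_one]⟩
  | cons o l ih =>
    obtain ⟨U, hU, hUiff⟩ := ih
    obtain ⟨s, S⟩ := o
    by_cases hP : P s
    · refine ⟨Nat.lor S U, List.mem_append_right _ (List.mem_map_of_mem hU), fun c => ?_⟩
      rw [bit_lor, Bool.or_eq_true, hUiff]
      simp only [List.mem_cons, exists_eq_or_imp, hP, true_and]
      tauto
    · refine ⟨U, List.mem_append_left _ hU, fun c => ?_⟩
      rw [hUiff]
      simp only [List.mem_cons, exists_eq_or_imp, hP, false_and, false_or]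

variable {T : Tab}

/-- Simplicity of a finite group acting faithfully on the cosets of `H`. -/
theorem Tab.Checked.isSimple {G : Type*} [Group G] [Finite G] (hT : T.Checked) (gen : ℕ → G) {H : Subgroup G}
    (hH : H = Subgroup.closure {g | ∃ w ∈ T.subs, g = evalW gen w}) {f : G →* Equiv.Perm (Fin T.n)}
    (hf : ∀ x < T.ng, f (gen x) = hT.perm x) (hinj : Function.Injective f)
    (e : Fin T.n ≃ G ⧸ H) (he0 : e ⟨0, hT.pos⟩ = (QuotientGroup.mk 1 : G ⧸ H))
    (he : ∀ (g : G) c, g • e c = e (f g c))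
    (orbs : List (ℕ × ℕ)) (horb : ∀ o ∈ orbs, ∃ size l, T.orbitOK o.1 o.2 size l = true)
    (hprim : T.primOK orbs = true) (hn : 1 < T.n) (p a : ℕ) (hp : p.Prime) (hdvd : p ^ a ∣ T.n)
    (hndvd : ¬ p ∣ Nat.card H) (x : G) (hx : x ^ p ^ a = 1) (hx1 : x ≠ 1)
    (htop : ∀ N : Subgroup G, N.Normal → x ∈ N → N = ⊤) : IsSimpleGroup G := by
  haveI : Nontrivial G := ⟨⟨x, 1, hx1⟩⟩
  refine ⟨fun N hN => ?_⟩
  by_cases hbot : N = ⊥
  · exact Or.inl hbot
  refine Or.inr (htop N hN ?_)
  set z : Fin T.n := ⟨0, hT.pos⟩ with hz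
  have hHz : ∀ h ∈ H, f h z = z := by
    intro h hh
    refine e.injective ?_
    rw [← he, he0, MulAction.Quotient.smul_mk, smul_eq_mul, mul_one, QuotientGroup.eq, mul_one]
    exact inv_mem hh
  have htr : ∀ c : Fin T.n, ∃ g : G, f g z = c := by
    intro c
    obtain ⟨g, hg⟩ := QuotientGroup.mk_surjective (e c)
    exact ⟨g, e.injective (by rw [← he, he0, MulAction.Quotient.smul_mk, smul_eq_mul, mul_one, hg])⟩
  -- the block of `0`
  set B : Set (Fin T.n) := (fun g => f g z) '' (N : Set G) with hB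
  have hBz : z ∈ B := ⟨1, N.one_mem, by simp⟩
  have hBinv : ∀ h ∈ H, ∀ c ∈ B, f h c ∈ B := by
    rintro h hh _ ⟨m, hm, rfl⟩
    refine ⟨h * m * h⁻¹, hN.conj_mem m hm h, ?_⟩
    simp only [map_mul, map_inv, Equiv.Perm.mul_apply]
    rw [show (f h)⁻¹ z = z from by rw [Equiv.Perm.inv_eq_iff_eq, hHz h hh]]
  have horbB : ∀ o ∈ orbs, ∀ c : Fin T.n, bit o.2 c = true →
      (c ∈ B ↔ ∃ hs : o.1 < T.n, (⟨o.1, hs⟩ : Fin T.n) ∈ B) := by
    intro o ho c hc
    obtain ⟨size, l, hO⟩ := horb o ho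
    obtain ⟨k, hk, -, hiff⟩ := hT.orbit gen hH hf e he hO
    have hks : o.1 < T.n := hk ▸ k.isLt
    obtain rfl : k = ⟨o.1, hks⟩ := Fin.ext hk
    obtain ⟨⟨h, hh⟩, hhc⟩ := (hiff c).2 hc
    change h • e ⟨o.1, hks⟩ = e c at hhc
    rw [he] at hhc
    have hc' := e.injective hhc
    constructor
    · intro hcB
      refine ⟨hks, ?_⟩
      have := hBinv _ (inv_mem hh) c hcB
      rwa [map_inv, show (f h)⁻¹ c = ⟨o.1, hks⟩ from by rw [Equiv.Perm.inv_eq_iff_eq, hc']] at this
    · rintro ⟨_, hsB⟩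
      rw [← hc']
      exact hBinv h hh _ hsB
  simp only [Tab.primOK, Bool.and_eq_true] at hprim
  obtain ⟨hU, hcov⟩ := hprim
  have count : ∀ U : ℕ, countAll U T.n ((T.n + 255) / 256) = {c : Fin T.n | bit U c = true}.ncard := by
    intro U
    rw [countAll_eq, show Nat.min T.n (256 * ((T.n + 255) / 256)) = T.n by
      simp only [Nat.min_def]; split <;> omega, countGo_eq,
      ← Set.ncard_image_of_injective _ Fin.val_injective, ← Set.ncard_coe_finset]
    congr 1
    ext c
    simp only [Set.mem_image, Set.mem_setOf_eq, Finset.coe_filter, Finset.mem_range]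
    exact ⟨fun ⟨h1, h2⟩ => ⟨⟨c, h1⟩, h2, rfl⟩, fun ⟨d, hd, hdc⟩ => hdc ▸ ⟨d.isLt, hd⟩⟩
  have hcover : ∀ c : Fin T.n, (c : ℕ) = 0 ∨ ∃ o ∈ orbs, bit o.2 c = true := by
    intro c
    rw [← bit_foldr]
    have h := Nat.eq_of_beq_eq_true hcov
    rw [count] at h
    have := Set.eq_of_subset_of_ncard_le (Set.subset_univ _) (by rw [h, Set.ncard_univ, Nat.card_fin])
      Set.finite_univ
    have h2 : c ∈ (Set.univ : Set (Fin T.n)) := Set.mem_univ c
    rw [← this] at h2
    exact h2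
  obtain ⟨U, hUmem, hUiff⟩ := exists_union (fun s => ∃ hs : s < T.n, (⟨s, hs⟩ : Fin T.n) ∈ B) orbs
  have hBU : B = {c : Fin T.n | bit U c = true} := by
    ext c
    simp only [Set.mem_setOf_eq, hUiff]
    constructor
    · intro hc
      rcases hcover c with h0 | ⟨o, ho, hoc⟩
      · exact Or.inl h0
      · exact Or.inr ⟨o, ho, (horbB o ho c hoc).1 hc, hoc⟩
    · rintro (h0 | ⟨o, ho, hs, hoc⟩)
      · rw [show c = z from Fin.ext h0]; exact hBz
      · exact (horbB o ho c hoc).2 hs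
  -- translates of the block
  letI : MulAction N (Fin T.n) := MulAction.compHom _ (f.comp N.subtype)
  have horb0 : MulAction.orbit N z = B := by
    ext c
    constructor
    · rintro ⟨⟨m, hm⟩, rfl⟩; exact ⟨m, hm, rfl⟩
    · rintro ⟨m, hm, rfl⟩; exact ⟨⟨m, hm⟩, rfl⟩
  have hBdvdN : B.ncard ∣ Nat.card N := by
    rw [← horb0, ← MulAction.index_stabilizer]
    exact Subgroup.index_dvd_card _
  have hBdvd : B.ncard ∣ T.n := by
    -- all orbits of `N` have the size of `B`
    have hsz : ∀ c : Fin T.n, (MulAction.orbit N c).ncard = B.ncard := by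
      intro c
      obtain ⟨g, rfl⟩ := htr c
      have : MulAction.orbit N (f g z) = (fun d => f g d) '' B := by
        ext d
        constructor
        · rintro ⟨⟨m, hm⟩, rfl⟩
          refine ⟨f (g⁻¹ * m * g) z, ⟨_, by simpa [mul_assoc] using hN.conj_mem m hm g⁻¹, rfl⟩, ?_⟩
          show f g (f (g⁻¹ * m * g) z) = f m (f g z)
          rw [← Equiv.Perm.mul_apply, ← Equiv.Perm.mul_apply, ← map_mul, ← map_mul]
          group
        · rintro ⟨_, ⟨m, hm, rfl⟩, rfl⟩
          refine ⟨⟨g * m * g⁻¹, hN.conj_mem m hm g⟩, ?_⟩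
          show f (g * m * g⁻¹) (f g z) = f g (f m z)
          rw [← Equiv.Perm.mul_apply, ← Equiv.Perm.mul_apply, ← map_mul, ← map_mul]
          group
      rw [this, Set.ncard_image_of_injective _ (f g).injective]
    classical
    haveI : Fintype (MulAction.orbitRel.Quotient N (Fin T.n)) := Fintype.ofFinite _
    have h := Nat.card_congr (MulAction.selfEquivSigmaOrbits N (Fin T.n))
    rw [Nat.card_fin, Nat.card_sigma, Finset.sum_congr rfl (fun ω _ => (Nat.card_coe_set_eq _).trans (hsz _)),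
      Finset.sum_const, smul_eq_mul] at h
    exact ⟨_, h.trans (Nat.mul_comm _ _)⟩
  have hBn : B.ncard = T.n := by
    have h := List.all_eq_true.1 hU U hUmem
    simp only [Bool.or_eq_true, Bool.not_eq_true', count, ← hBU] at h
    rcases h with (h | h) | h
    · exfalso
      obtain rfl := Nat.eq_of_beq_eq_true h
      apply hbot
      rw [eq_bot_iff]
      intro m hm
      rw [Subgroup.mem_bot]
      refine hinj ?_
      rw [map_one]
      refine Equiv.ext fun c => ?_
      obtain ⟨g, rfl⟩ := htr c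
      have : f (g⁻¹ * m * g) z ∈ B := ⟨_, by simpa [mul_assoc] using hN.conj_mem m hm g⁻¹, rfl⟩
      rw [hBU, Set.mem_setOf_eq, bit_one, decide_eq_true_iff] at this
      have h2 : f (g⁻¹ * m * g) z = z := Fin.ext this
      rw [map_mul, map_mul, map_inv, Equiv.Perm.mul_apply, Equiv.Perm.mul_apply, Equiv.Perm.inv_eq_iff_eq] at h2
      rw [Equiv.Perm.one_apply, h2]
    · exact Nat.eq_of_beq_eq_true h
    · exfalso
      rw [Nat.mod_eq_zero_of_dvd hBdvd] at h
      simp at h
  rw [← QuotientGroup.eq_one_iff]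
  have hq1 : orderOf (x : G ⧸ N) ∣ p ^ a := by
    rw [orderOf_dvd_iff_pow_eq_one, ← QuotientGroup.mk_pow, hx]
    rfl
  obtain ⟨b, -, hb⟩ := (Nat.dvd_prime_pow hp).1 hq1
  rcases Nat.eq_zero_or_pos b with rfl | hb0
  · rw [← orderOf_eq_one_iff, hb, pow_zero]
  exfalso
  have hcG : Nat.card G = T.n * Nat.card H := by
    rw [← H.index_mul_card, Subgroup.index, ← Nat.card_congr e, Nat.card_fin]
  have h2 : Nat.card (G ⧸ N) * T.n ∣ T.n * Nat.card H := by
    rw [← hcG, Subgroup.card_eq_card_quotient_mul_card_subgroup N]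
    exact Nat.mul_dvd_mul_left _ (hBn ▸ hBdvdN)
  rw [Nat.mul_comm T.n, Nat.mul_dvd_mul_iff_right hT.pos] at h2
  exact hndvd (((dvd_pow_self p hb0.ne').trans (hb ▸ orderOf_dvd_natCard _)).trans h2)

end Cfsg.Agent.Screen.CosetEnum
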