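import Cfsg.Agent.Screen.CosetEnum.Core

/-!
# From a checked coset enumeration to the index and to orbit sizes
-/

set_option autoImplicit false

namespace Cfsg.Agent.Screen.CosetEnum

/-- A coset table, linked to a certificate. -/
structure Tab extends Cert where
  /-- number of cosets -/
  n : ℕ
  /-- two fields for each (coset, letter): the image and the number of the fact proving it -/
  tab : Tr
  /-- three fields for each coset: its node, a letter and an earlier coset carried to it by that letter -/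
  cos : Tr

/-- Image of coset `c` under letter `x`. -/
def Tab.img (T : Tab) (c x : ℕ) : ℕ := field T.tab (2 * (c * T.ng + x))
/-- The fact behind an entry. -/
def Tab.why (T : Tab) (c x : ℕ) : ℕ := field T.tab (2 * (c * T.ng + x) + 1)
/-- The node of a coset. -/
def Tab.nd (T : Tab) (c : ℕ) : ℕ := field T.cos (3 * c)

/-- Apply a word in the table. -/
def Tab.app (T : Tab) : List ℕ → ℕ → ℕ
  | [], c => c
  | x :: w, c => force (T.img c x) fun d => T.app w d

/-- Check one entry. -/
def Tab.entryOK (T : Tab) (c x : ℕ) : Bool :=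
  Nat.blt (T.img c x) T.n && Nat.beq (T.img (T.img c x) x) c && Nat.blt (T.why c x) T.nf &&
    Nat.beq (T.fx (T.why c x)) x &&
    ((Nat.beq (T.fu (T.why c x)) (T.nd c) && Nat.beq (T.fv (T.why c x)) (T.nd (T.img c x))) ||
      (Nat.beq (T.fv (T.why c x)) (T.nd c) && Nat.beq (T.fu (T.why c x)) (T.nd (T.img c x))))

/-- Check the first `k` entries of a row. -/
def Tab.rowGo (T : Tab) (c : ℕ) : ℕ → Bool
  | 0 => true
  | x + 1 => T.entryOK c x && T.rowGo c x

/-- Check the parent of a coset. -/
def Tab.parentOK (T : Tab) (c : ℕ) : Bool :=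
  Nat.beq c 0 ||
    (Nat.blt (field T.cos (3 * c + 2)) c && Nat.blt (field T.cos (3 * c + 1)) T.ng &&
      Nat.beq (T.img (field T.cos (3 * c + 2)) (field T.cos (3 * c + 1))) c)

/-- All relators close at a coset. -/
def Tab.relsOK (T : Tab) (c : ℕ) : List (List ℕ) → Bool
  | [] => true
  | w :: ws => Nat.beq (T.app w c) c && T.relsOK c ws

/-- Check one coset. -/
def Tab.cosetOK (T : Tab) (c : ℕ) : Bool :=
  T.rowGo c T.ng && T.parentOK c && T.relsOK c T.rels

/-- Check `k` cosets from `c`, as far as they exist. -/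
def Tab.rows (T : Tab) : ℕ → ℕ → Bool
  | 0, _ => true
  | k + 1, c => bif Nat.blt c T.n then T.cosetOK c && T.rows k (c + 1) else true

/-- The small global checks: the base coset, the subgroup words and their letters. -/
def Tab.baseOK (T : Tab) : Bool :=
  Nat.blt 0 T.n && Nat.beq (T.nd 0) 0 && T.relsOK 0 T.subs &&
    ((T.rels ++ T.subs).all fun w => w.all fun x => Nat.blt x T.ng)

/-- Everything that has to be checked. -/
structure Tab.Checked (T : Tab) : Prop where
  facts : ∀ b, 24 * b < T.nf → block T.toCert b = true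
  rows : ∀ c < T.n, T.cosetOK c = true
  base : T.baseOK = true

variable {T : Tab}

theorem Tab.rows_spec : ∀ k c₀, T.rows k c₀ = true → ∀ c, c₀ ≤ c → c < c₀ + k → c < T.n → T.cosetOK c = true := by
  intro k
  induction k with
  | zero => intro c₀ _ c h1 h2; omega
  | succ k ih =>
    intro c₀ h c h1 h2 h3
    unfold Tab.rows at h
    have hb : Nat.blt c₀ T.n = true := by simp [Nat.blt_eq]; omega
    simp only [hb, cond_true, Bool.and_eq_true] at h
    rcases Nat.lt_or_ge c₀ c with h4 | h4
    · exact ih _ h.2 c h4 (by omega) h3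
    · obtain rfl : c₀ = c := by omega
      exact h.1

theorem Tab.relsOK_spec {c : ℕ} : ∀ {l : List (List ℕ)}, T.relsOK c l = true → ∀ w ∈ l, T.app w c = c
  | [], _, w, hw => by simp at hw
  | a :: l, h, w, hw => by
    simp only [Tab.relsOK, Bool.and_eq_true] at h
    rcases List.mem_cons.1 hw with rfl | hw
    · exact Nat.eq_of_beq_eq_true h.1
    · exact Tab.relsOK_spec h.2 w hw

theorem Tab.rowGo_spec {c : ℕ} : ∀ {k : ℕ}, T.rowGo c k = true → ∀ x < k, T.entryOK c x = true
  | 0, _, x, hx => absurd hx (Nat.not_lt_zero x)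
  | k + 1, h, x, hx => by
    simp only [Tab.rowGo, Bool.and_eq_true] at h
    rcases Nat.lt_or_ge x k with hx' | hx'
    · exact Tab.rowGo_spec h.2 x hx'
    · obtain rfl : x = k := by omega
      exact h.1

namespace Tab.Checked

variable (hT : T.Checked)
include hT

theorem entry {c x : ℕ} (hc : c < T.n) (hx : x < T.ng) :
    T.img c x < T.n ∧ T.img (T.img c x) x = c ∧ T.why c x < T.nf ∧ T.fx (T.why c x) = x ∧
      ((T.fu (T.why c x) = T.nd c ∧ T.fv (T.why c x) = T.nd (T.img c x)) ∨
        (T.fv (T.why c x) = T.nd c ∧ T.fu (T.why c x) = T.nd (T.img c x))) := by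
  have h := hT.rows c hc
  simp only [Tab.cosetOK, Bool.and_eq_true] at h
  have h2 := Tab.rowGo_spec h.1.1 x hx
  simp only [Tab.entryOK, Bool.and_eq_true, Bool.or_eq_true, Nat.blt_eq] at h2
  obtain ⟨⟨⟨⟨a, b⟩, d⟩, e⟩, f⟩ := h2
  exact ⟨a, Nat.eq_of_beq_eq_true b, d, Nat.eq_of_beq_eq_true e,
    f.imp (fun g => ⟨Nat.eq_of_beq_eq_true g.1, Nat.eq_of_beq_eq_true g.2⟩)
      (fun g => ⟨Nat.eq_of_beq_eq_true g.1, Nat.eq_of_beq_eq_true g.2⟩)⟩

theorem pos : 0 < T.n := by
  have h := hT.base
  simp only [Tab.baseOK, Bool.and_eq_true, Nat.blt_eq] at h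
  exact h.1.1.1

theorem nd_zero : T.nd 0 = 0 := by
  have h := hT.base
  simp only [Tab.baseOK, Bool.and_eq_true] at h
  exact Nat.eq_of_beq_eq_true h.1.1.2

theorem sub_fix : ∀ w ∈ T.subs, T.app w 0 = 0 := by
  have h := hT.base
  simp only [Tab.baseOK, Bool.and_eq_true] at h
  exact Tab.relsOK_spec h.1.2

theorem letters {w : List ℕ} (hw : w ∈ T.rels ∨ w ∈ T.subs) : ∀ x ∈ w, x < T.ng := by
  have h := hT.base
  simp only [Tab.baseOK, Bool.and_eq_true] at h
  intro x hx
  have h2 := List.all_eq_true.1 (List.all_eq_true.1 h.2 w (List.mem_append.2 hw)) x hx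
  simpa [Nat.blt_eq] using h2

theorem rel_fix {c : ℕ} (hc : c < T.n) : ∀ w ∈ T.rels, T.app w c = c := by
  have h := hT.rows c hc
  simp only [Tab.cosetOK, Bool.and_eq_true] at h
  exact Tab.relsOK_spec h.2

theorem parent {c : ℕ} (hc : c < T.n) (h0 : c ≠ 0) :
    ∃ x p, x < T.ng ∧ p < c ∧ T.img p x = c := by
  have h := hT.rows c hc
  simp only [Tab.cosetOK, Bool.and_eq_true, Tab.parentOK, Bool.or_eq_true, Nat.blt_eq] at h
  rcases h.1.2 with h' | ⟨⟨a, b⟩, d⟩
  · exact absurd (Nat.eq_of_beq_eq_true h') h0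
  · exact ⟨_, _, b, a, Nat.eq_of_beq_eq_true d⟩

/-- The permutation of the cosets given by a letter. -/
def perm (x : ℕ) : Equiv.Perm (Fin T.n) :=
  if hx : x < T.ng then
    { toFun := fun c => ⟨T.img c x, (entry hT c.isLt hx).1⟩
      invFun := fun c => ⟨T.img c x, (entry hT c.isLt hx).1⟩
      left_inv := fun c => Fin.ext (entry hT c.isLt hx).2.1
      right_inv := fun c => Fin.ext (entry hT c.isLt hx).2.1 }
  else 1

theorem perm_apply {x : ℕ} (hx : x < T.ng) (c : Fin T.n) : ((hT.perm x c : Fin T.n) : ℕ) = T.img c x := by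
  simp [perm, hx]

theorem perm_sq (x : ℕ) : hT.perm x * hT.perm x = 1 := by
  by_cases hx : x < T.ng
  · refine Equiv.ext fun c => Fin.ext ?_
    rw [Equiv.Perm.mul_apply, perm_apply hT hx, perm_apply hT hx]
    exact (entry hT c.isLt hx).2.1
  · simp [perm, hx]

theorem app_eq : ∀ w : List ℕ, (∀ x ∈ w, x < T.ng) → ∀ c : Fin T.n,
    ((evalW hT.perm w c : Fin T.n) : ℕ) = T.app w c := by
  intro w
  induction w with
  | nil => intro _ c; simp [evalW, Tab.app]
  | cons a w ih =>
    intro hw c
    rw [evalW, Equiv.Perm.mul_apply, ih (fun x hx => hw x (List.mem_cons_of_mem _ hx)),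
      perm_apply hT (hw a List.mem_cons_self), Tab.app, force_eq]

theorem perm_rel : ∀ w ∈ T.rels, evalW hT.perm w = 1 := fun w hw =>
  Equiv.ext fun c => Fin.ext (by
    rw [app_eq hT w (letters hT (Or.inl hw)), rel_fix hT c.isLt w hw, Equiv.Perm.one_apply])

theorem perm_sub : ∀ w ∈ T.subs, evalW hT.perm w ⟨0, pos hT⟩ = ⟨0, pos hT⟩ := fun w hw =>
  Fin.ext (by rw [app_eq hT w (letters hT (Or.inr hw))]; exact sub_fix hT w hw)

/-- The main consequence: the cosets are numbered by the table. -/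
theorem exists_equiv {G : Type*} [Group G] (gen : ℕ → G) (hgen : ∀ x, gen x * gen x = 1)
    (hout : ∀ x, T.ng ≤ x → gen x = 1) (hrels : ∀ w ∈ T.rels, evalW gen w = 1)
    (htop : Subgroup.closure (Set.range gen) = ⊤) (H : Subgroup G)
    (hH : H = Subgroup.closure {g | ∃ w ∈ T.subs, g = evalW gen w}) (f : G →* Equiv.Perm (Fin T.n))
    (hf : ∀ x < T.ng, f (gen x) = hT.perm x) :
    ∃ e : Fin T.n ≃ G ⧸ H, (e ⟨0, pos hT⟩ = (QuotientGroup.mk 1 : G ⧸ H)) ∧
      ∀ (g : G) c, g • e c = e (f g c) := by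
  obtain ⟨val, hv0, hval⟩ := exists_val (C := T.toCert) (Q := G ⧸ H) (q₀ := QuotientGroup.mk 1)
    hgen (hout _ le_rfl) (fun w hw q => by rw [hrels w hw, one_smul])
    (fun w hw => by
      rw [MulAction.Quotient.smul_mk, smul_eq_mul, mul_one, QuotientGroup.eq, mul_one]
      exact inv_mem (hH ▸ Subgroup.subset_closure ⟨w, hw, rfl⟩))
    hT.facts
  set pt : Fin T.n → G ⧸ H := fun c => val (T.nd c) with hpt
  have hpt0 : pt ⟨0, pos hT⟩ = QuotientGroup.mk 1 := by rw [hpt]; simp only; rw [nd_zero hT, hv0]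
  have heq : ∀ x, ∀ c : Fin T.n, x < T.ng → gen x • pt c = pt (hT.perm x c) := by
    intro x c hx
    obtain ⟨-, -, hw, hfx, hends⟩ := entry hT c.isLt hx
    have h := hval _ hw
    rw [Holds, hfx] at h
    simp only [hpt, perm_apply hT hx]
    rcases hends with ⟨a, b⟩ | ⟨a, b⟩
    · rw [a, b] at h; exact h
    · rw [a, b] at h
      rw [← h, ← mul_smul, hgen, one_smul]
  -- the stabiliser of coset `0` contains `H`
  have hfW : ∀ w : List ℕ, (∀ x ∈ w, x < T.ng) → f (evalW gen w) = evalW hT.perm w := by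
    intro w
    induction w with
    | nil => simp [evalW]
    | cons a w ih =>
      intro hw
      rw [evalW, evalW, map_mul, ih (fun x hx => hw x (List.mem_cons_of_mem _ hx)),
        hf a (hw a List.mem_cons_self)]
  have hHstab : ∀ h ∈ H, f h ⟨0, pos hT⟩ = ⟨0, pos hT⟩ := by
    intro h hh
    rw [hH] at hh
    induction hh using Subgroup.closure_induction with
    | mem y hy =>
      obtain ⟨w, hw, rfl⟩ := hy
      rw [hfW w (letters hT (Or.inr hw))]
      exact perm_sub hT w hw
    | one => simp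
    | mul a b _ _ ha hb => rw [map_mul, Equiv.Perm.mul_apply, hb, ha]
    | inv a _ ha => rw [map_inv, Equiv.Perm.inv_eq_iff_eq, ha]
  let back : G ⧸ H → Fin T.n := Quotient.lift (fun g : G => f g ⟨0, pos hT⟩) (by
    intro a b hab
    change f a ⟨0, pos hT⟩ = f b ⟨0, pos hT⟩
    have hm : a⁻¹ * b ∈ H := QuotientGroup.leftRel_apply.1 hab
    conv_rhs => rw [show b = a * (a⁻¹ * b) by group, map_mul, Equiv.Perm.mul_apply, hHstab _ hm])
  have hback : ∀ (g : G) (q : G ⧸ H), back (g • q) = f g (back q) := by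
    intro g q
    induction q using QuotientGroup.induction_on with
    | H a =>
      show f (g * a) ⟨0, pos hT⟩ = f g (f a ⟨0, pos hT⟩)
      rw [map_mul, Equiv.Perm.mul_apply]
  have hleft : ∀ c, back (pt c) = c := by
    intro ⟨c, hc⟩
    induction c using Nat.strong_induction_on with
    | h c ih =>
      by_cases h0 : c = 0
      · subst h0
        rw [hpt0]
        show f 1 ⟨0, pos hT⟩ = _
        simp
      · obtain ⟨x, p, hx, hp, hpc⟩ := parent hT hc h0
        have e : hT.perm x ⟨p, by omega⟩ = ⟨c, hc⟩ := Fin.ext (by rw [perm_apply hT hx]; exact hpc)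
        rw [← e, ← heq x _ hx, hback, hf x hx, ih p hp (by omega)]
  have key : ∀ g : G, ∀ c, ∃ d, g • pt c = pt d := by
    intro g
    have hg : g ∈ Subgroup.closure (Set.range gen) := htop ▸ Subgroup.mem_top g
    induction hg using Subgroup.closure_induction with
    | mem y hy =>
      obtain ⟨x, rfl⟩ := hy
      intro c
      by_cases hx : x < T.ng
      · exact ⟨_, heq x c hx⟩
      · exact ⟨c, by rw [hout x (by omega), one_smul]⟩
    | one => exact fun c => ⟨c, one_smul _ _⟩
    | mul a b _ _ ha hb =>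
      intro c
      obtain ⟨d, hd⟩ := hb c
      obtain ⟨e, he⟩ := ha d
      exact ⟨e, by rw [mul_smul, hd, he]⟩
    | inv a _ ha =>
      intro c
      choose σ hσ using ha
      have hinj : Function.Injective σ := fun u v huv => by
        have h2 := congrArg back (smul_left_cancel a ((hσ u).trans ((congrArg pt huv).trans (hσ v).symm)))
        rwa [hleft, hleft] at h2
      obtain ⟨d, hd⟩ := (Finite.injective_iff_surjective.1 hinj) c
      exact ⟨d, by rw [inv_smul_eq_iff, hσ d, hd]⟩
  have hsurj : Function.Surjective pt := by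
    intro q
    induction q using QuotientGroup.induction_on with
    | H a =>
      obtain ⟨d, hd⟩ := key a ⟨0, pos hT⟩
      exact ⟨d, by rw [← hd, hpt0, MulAction.Quotient.smul_mk, smul_eq_mul, mul_one]⟩
  refine ⟨Equiv.ofBijective pt ⟨Function.LeftInverse.injective hleft, hsurj⟩, hpt0, fun g c => ?_⟩
  obtain ⟨d, hd⟩ := key g c
  have h2 := congrArg back hd
  rw [hback, hleft, hleft] at h2
  show g • pt c = pt (f g c)
  rw [hd, h2]

end Tab.Checked

end Cfsg.Agent.Screen.CosetEnum
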